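import Mathlib
import Cfsg.Agent.Helper18.Small

set_option autoImplicit false
set_option linter.unusedSectionVars false
set_option linter.unusedVariables false

namespace Cfsg.Agent.Helper18.PerfWr

open Subgroup

theorem long_of_inj {X Y Z : Type*} [Group X] [Group Y] [Group Z] (m d : ℕ) (j : Y →* X)
    (hj : Function.Injective j) (hB : j.range ≤ derivedSeries X m) (f : Y →* Z)
    (hf : Function.Surjective f) (hZ : derivedSeries Z d ≠ ⊥) :
    derivedSeries X (m + d) ≠ ⊥ := by
  have h1 : ∀ n, (derivedSeries Y n).map j ≤ derivedSeries X (m + n) := by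
    intro n
    induction n with
    | zero =>
      rw [derivedSeries_zero, ← MonoidHom.range_eq_map]
      exact hB
    | succ n ih =>
      rw [derivedSeries_succ, map_commutator, ← add_assoc, derivedSeries_succ]
      exact commutator_mono ih ih
  have h2 : derivedSeries Y d ≠ ⊥ := by
    intro h
    apply hZ
    rw [← map_derivedSeries_eq hf d, h, Subgroup.map_bot]
  intro h
  apply h2
  have h3 := h1 d
  rw [h, le_bot_iff] at h3
  exact (map_eq_bot_iff_of_injective _ hj).mp h3

theorem exists_stable (W : Type*) [Group W] [Finite W] :
    ∃ K, derivedSeries W (K + 1) = derivedSeries W K := by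
  by_contra h
  simp only [not_exists] at h
  have hlt : ∀ K, Nat.card (derivedSeries W (K + 1)) < Nat.card (derivedSeries W K) := by
    intro K
    have hle : derivedSeries W (K + 1) ≤ derivedSeries W K :=
      derivedSeries_antitone W (Nat.le_succ K)
    by_contra hnot
    exact h K (eq_of_le_of_card_ge hle (not_lt.mp hnot))
  have hb : ∀ K, Nat.card (derivedSeries W K) + K ≤ Nat.card W := by
    intro K
    induction K with
    | zero => exact card_le_card_group _
    | succ K ih =>
      have := hlt K
      omega
  have := hb (Nat.card W + 1)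
  omega

theorem coatom_of_index_prime {G : Type*} [Group G] [Finite G] (H : Subgroup G)
    (hp : H.index.Prime) : IsCoatom H := by
  constructor
  · intro h
    rw [h, index_top] at hp
    exact Nat.not_prime_one hp
  · intro K hK
    have hdvd : K.index ∣ H.index := index_dvd_of_le hK.le
    rcases (Nat.dvd_prime hp).mp hdvd with h1 | h1
    · exact index_eq_one.mp h1
    · exfalso
      have hc1 := card_mul_index H
      have hc2 := card_mul_index K
      rw [h1] at hc2
      have hpos : 0 < H.index := hp.pos
      have hcard : Nat.card K = Nat.card H :=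
        Nat.eq_of_mul_eq_mul_right hpos (hc2.trans hc1.symm)
      exact hK.ne (eq_of_le_of_card_ge hK.le hcard.le)

section Wreath

variable {D Q : Type*} [Group D] [Group Q]

/-- base element at the identity coordinate -/
def bs [DecidableEq Q] (s : D) : RegularWreathProduct D Q := ⟨Pi.mulSingle 1 s, 1⟩

/-- the commutator of a base element with a top element -/
def cm [DecidableEq Q] (s : D) (σ : Q) : RegularWreathProduct D Q :=
  bs s * RegularWreathProduct.inl σ * (bs s)⁻¹ * (RegularWreathProduct.inl σ)⁻¹

theorem cm_right [DecidableEq Q] (s : D) (σ : Q) : (cm s σ).right = 1 := by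
  simp [cm, bs, RegularWreathProduct.mul_right, RegularWreathProduct.inv_right]

theorem cm_left [DecidableEq Q] (s : D) (σ : Q) (hσ : σ ≠ 1) : (cm s σ).left 1 = s := by
  simp [cm, bs, RegularWreathProduct.mul_left, RegularWreathProduct.inv_left,
    RegularWreathProduct.inv_right, RegularWreathProduct.mul_right, hσ]

/-- evaluation at the identity coordinate on the base group -/
def ev : (RegularWreathProduct.rightHom : RegularWreathProduct D Q →* Q).ker →* D where
  toFun w := w.1.left 1
  map_one' := rfl
  map_mul' a b := by
    have ha : a.1.right = 1 := MonoidHom.mem_ker.mp a.2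
    show (a.1 * b.1).left 1 = a.1.left 1 * b.1.left 1
    rw [RegularWreathProduct.mul_left, Pi.mul_apply, ha, inv_one, one_mul]

/-- the coordinates of a base group element -/
def leftHom : (RegularWreathProduct.rightHom : RegularWreathProduct D Q →* Q).ker →* (Q → D) where
  toFun w := w.1.left
  map_one' := rfl
  map_mul' a b := by
    have ha : a.1.right = 1 := MonoidHom.mem_ker.mp a.2
    show (a.1 * b.1).left = a.1.left * b.1.left
    rw [RegularWreathProduct.mul_left, ha]
    funext x
    rw [Pi.mul_apply, Pi.mul_apply, inv_one, one_mul]

theorem leftHom_injective :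
    Function.Injective (leftHom : (RegularWreathProduct.rightHom :
      RegularWreathProduct D Q →* Q).ker →* (Q → D)) := by
  intro a b hab
  have ha : a.1.right = 1 := MonoidHom.mem_ker.mp a.2
  have hb : b.1.right = 1 := MonoidHom.mem_ker.mp b.2
  have h1 : a.1.left = b.1.left := hab
  apply Subtype.ext
  cases ha' : a.1 with
  | mk al ar =>
    cases hb' : b.1 with
    | mk bl br =>
      rw [ha'] at ha h1
      rw [hb'] at hb h1
      simp only at ha hb h1
      rw [ha, hb, h1]

end Wreath


section Family

theorem exists_long (d : ℕ) : ∃ (S : Type) (_ : Group S) (_ : Finite S),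
    (∃ m, Nat.card S = 2 ^ m) ∧ derivedSeries S d ≠ ⊥ := by
  induction d with
  | zero =>
    refine ⟨Multiplicative (ZMod 2), inferInstance, inferInstance, ⟨1, ?_⟩, ?_⟩
    · rw [Nat.card_eq_fintype_card]
      rfl
    · rw [derivedSeries_zero]
      exact top_ne_bot
  | succ d ih =>
    obtain ⟨S, _, _, ⟨m, hm⟩, hS⟩ := ih
    refine ⟨RegularWreathProduct S (Multiplicative (ZMod 2)), inferInstance, inferInstance,
      ⟨m * 2 + 1, ?_⟩, ?_⟩
    · rw [RegularWreathProduct.card, hm]
      have h2 : Nat.card (Multiplicative (ZMod 2)) = 2 := by
        rw [Nat.card_eq_fintype_card]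
        rfl
      rw [h2, ← pow_mul, pow_succ]
    · have key := long_of_inj 1 d
        (Subgroup.subtype (commutator (RegularWreathProduct S (Multiplicative (ZMod 2))) ⊓
          (RegularWreathProduct.rightHom :
            RegularWreathProduct S (Multiplicative (ZMod 2)) →* Multiplicative (ZMod 2)).ker))
        (Subgroup.subtype_injective _)
        (by rw [Subgroup.range_subtype, derivedSeries_one]; exact inf_le_left)
        (ev.comp (Subgroup.inclusion inf_le_right))
        (by
          intro s
          refine ⟨⟨cm s (Multiplicative.ofAdd (1 : ZMod 2)), ?_, ?_⟩, ?_⟩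
          · exact Subgroup.commutator_mem_commutator (Subgroup.mem_top _) (Subgroup.mem_top _)
          · exact MonoidHom.mem_ker.mpr (cm_right s _)
          · exact cm_left s _ (by decide))
        hS
      rwa [add_comm] at key

theorem a5_perfect (k : ℕ) : derivedSeries (alternatingGroup (Fin 5)) k = ⊤ := by
  cases k with
  | zero => rfl
  | succ k =>
    rw [IsSimpleGroup.derivedSeries_succ]
    rcases (inferInstance : (commutator (alternatingGroup (Fin 5))).Normal).eq_bot_or_eq_top
      with h | h
    · exfalso
      have hs : Group.IsSolvable (alternatingGroup (Fin 5)) :=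
        ⟨⟨1, by rw [derivedSeries_one]; exact h⟩⟩
      apply Equiv.Perm.not_isSolvable_fin_5
      exact Group.isSolvable_of_ker_le_range (alternatingGroup (Fin 5)).subtype
        (Equiv.Perm.sign : Equiv.Perm (Fin 5) →* ℤˣ) (by
          rw [Subgroup.range_subtype]
          exact le_of_eq rfl)
    · exact h

end Family

section Main

theorem main (d : ℕ) : ∃ (G : Type) (_ : Group G) (_ : Finite G) (H : Subgroup G),
    commutator G = ⊤ ∧ IsCoatom H ∧ Group.IsSolvable H ∧ derivedSeries H d ≠ ⊥ := by
  obtain ⟨S, _, _, ⟨m, hm⟩, hS⟩ := exists_long d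
  obtain ⟨K, hK⟩ := exists_stable (RegularWreathProduct S (alternatingGroup (Fin 5)))
  have hPnormal : (derivedSeries (RegularWreathProduct S (alternatingGroup (Fin 5))) K).Normal :=
    derivedSeries_normal _ K
  generalize hP : derivedSeries (RegularWreathProduct S (alternatingGroup (Fin 5))) K = P
    at hK hPnormal
  have hPP : ⁅P, P⁆ = P := by
    have h := hK
    rw [← hP] at h ⊢
    exact h
  have hinl : ∀ q : alternatingGroup (Fin 5),
      (RegularWreathProduct.inl q : RegularWreathProduct S (alternatingGroup (Fin 5))) ∈ P := by
    intro q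
    have h1 := map_derivedSeries_le_derivedSeries (RegularWreathProduct.inl :
      alternatingGroup (Fin 5) →* RegularWreathProduct S (alternatingGroup (Fin 5))) K
    rw [a5_perfect K, hP] at h1
    exact h1 (Subgroup.mem_map_of_mem _ (Subgroup.mem_top q))
  let ρ : P →* alternatingGroup (Fin 5) := (RegularWreathProduct.rightHom).comp P.subtype
  have hρ : Function.Surjective ρ := fun q => ⟨⟨RegularWreathProduct.inl q, hinl q⟩, rfl⟩
  let A4 : Subgroup (alternatingGroup (Fin 5)) :=
    MulAction.stabilizer (alternatingGroup (Fin 5)) (4 : Fin 5)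
  have hA4idx : A4.index = 5 := by
    have : MulAction.IsPretransitive (alternatingGroup (Fin 5)) (Fin 5) :=
      alternatingGroup.isPretransitive_of_three_le_card (Fin 5) (by rw [Nat.card_fin]; norm_num)
    rw [MulAction.index_stabilizer_of_transitive, Nat.card_fin]
  have hA4solv : Group.IsSolvable A4 := by
    apply Cfsg.Agent.Helper18.Small.solvable_of_card_lt_sixty (Nat.card A4) A4 rfl
    have h1 := Subgroup.card_mul_index A4
    rw [hA4idx, nat_card_alternatingGroup, Nat.card_fin] at h1
    have h2 : (5 : ℕ).factorial / 2 = 60 := by decide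
    omega
  let H : Subgroup P := A4.comap ρ
  have hHidx : H.index = 5 := by
    rw [Subgroup.index_comap_of_surjective A4 hρ, hA4idx]
  refine ⟨P, inferInstance, inferInstance, H, ?_, ?_, ?_, ?_⟩
  · exact Group.isPerfect_def.mp (Subgroup.isPerfect_iff.mpr hPP)
  · exact coatom_of_index_prime H (by rw [hHidx]; norm_num)
  · -- solvable
    have hfun : Group.IsSolvable (alternatingGroup (Fin 5) → S) := by
      have hp : IsPGroup 2 (alternatingGroup (Fin 5) → S) :=
        IsPGroup.of_card (n := m * Nat.card (alternatingGroup (Fin 5))) (by
          rw [Nat.card_fun, hm, pow_mul])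
      have := hp.isNilpotent
      infer_instance
    have hB0 : Group.IsSolvable (RegularWreathProduct.rightHom :
        RegularWreathProduct S (alternatingGroup (Fin 5)) →* alternatingGroup (Fin 5)).ker :=
      Group.isSolvable_of_isSolvable_injective leftHom_injective
    have hle : (RegularWreathProduct.rightHom :
        RegularWreathProduct S (alternatingGroup (Fin 5)) →* alternatingGroup (Fin 5)).ker ≤
        A4.comap RegularWreathProduct.rightHom := by
      intro w hw
      rw [Subgroup.mem_comap, MonoidHom.mem_ker.mp hw]
      exact A4.one_mem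
    have hW4 : Group.IsSolvable (A4.comap (RegularWreathProduct.rightHom :
        RegularWreathProduct S (alternatingGroup (Fin 5)) →* alternatingGroup (Fin 5))) := by
      refine Group.isSolvable_of_ker_le_range (Subgroup.inclusion hle)
        ((RegularWreathProduct.rightHom :
          RegularWreathProduct S (alternatingGroup (Fin 5)) →*
            alternatingGroup (Fin 5)).subgroupComap A4) ?_
      intro w hw
      have h1 : RegularWreathProduct.rightHom w.1 = 1 := congrArg Subtype.val (MonoidHom.mem_ker.mp hw)
      exact ⟨⟨w.1, MonoidHom.mem_ker.mpr h1⟩, rfl⟩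
    have hinj : Function.Injective ((P.subtype.comp H.subtype).codRestrict
        (A4.comap (RegularWreathProduct.rightHom :
          RegularWreathProduct S (alternatingGroup (Fin 5)) →* alternatingGroup (Fin 5)))
        (fun h => h.2)) := by
      intro a b hab
      have h1 : a.1.1 = b.1.1 := congrArg (fun w : ↥(A4.comap (RegularWreathProduct.rightHom :
          RegularWreathProduct S (alternatingGroup (Fin 5)) →* alternatingGroup (Fin 5))) => w.1) hab
      exact Subtype.ext (Subtype.ext h1)
    exact Group.isSolvable_of_isSolvable_injective hinj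
  · -- long derived series
    obtain ⟨σ, hσ⟩ := exists_ne (1 : alternatingGroup (Fin 5))
    let j₁ : ↥(P ⊓ (RegularWreathProduct.rightHom :
        RegularWreathProduct S (alternatingGroup (Fin 5)) →* alternatingGroup (Fin 5)).ker) →* P :=
      Subgroup.inclusion inf_le_left
    have hj₁ : ∀ y, j₁ y ∈ H := by
      intro y
      show ρ (j₁ y) ∈ A4
      have h1 : ρ (j₁ y) = 1 := MonoidHom.mem_ker.mp y.2.2
      rw [h1]
      exact A4.one_mem
    have hjinj : Function.Injective (j₁.codRestrict H hj₁) := by
      intro a b hab
      have h1 : j₁ a = j₁ b := congrArg Subtype.val hab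
      exact Subgroup.inclusion_injective _ h1
    have key := long_of_inj 0 d (j₁.codRestrict H hj₁) hjinj
      (by rw [derivedSeries_zero]; exact le_top)
      (ev.comp (Subgroup.inclusion inf_le_right))
      (by
        intro s
        have hcm : cm s σ ∈ P :=
          P.mul_mem (hPnormal.conj_mem _ (hinl σ) (bs s)) (P.inv_mem (hinl σ))
        exact ⟨⟨cm s σ, hcm, MonoidHom.mem_ker.mpr (cm_right s σ)⟩, cm_left s σ hσ⟩)
      hS
    rwa [zero_add] at key

end Main

end Cfsg.Agent.Helper18.PerfWr
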