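import Mathlib
import Cfsg.Agent.Helper18.AutTwo

set_option autoImplicit false

/-!
# Subgroups of generalized quaternion groups

A subgroup of a generalized quaternion group either has a 2-group of automorphisms or is a
quaternion group of order 8 (given by a pair of generators).
-/

namespace Cfsg.Agent.Helper18.QuatSub

open Subgroup

/-- quaternion data for a group: order 8 and a pair of generators with the quaternion relations -/
def QData (X : Type*) [Group X] : Prop :=
  Nat.card X = 8 ∧ ∃ u w : X, orderOf u = 4 ∧ w ∉ zpowers u ∧ w * w = u * u ∧ w * u * w⁻¹ = u⁻¹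

theorem qdata_of_equiv {X Y : Type*} [Group X] [Group Y] (e : X ≃* Y) (h : QData X) : QData Y := by
  obtain ⟨hc, u, w, h1, h2, h3, h4⟩ := h
  refine ⟨by rw [← Nat.card_congr e.toEquiv]; exact hc, e u, e w, ?_, ?_, ?_, ?_⟩
  · rw [MulEquiv.orderOf_eq]; exact h1
  · intro hw
    apply h2
    obtain ⟨k, hk⟩ := hw
    refine ⟨k, e.injective ?_⟩
    rw [← hk]; simp
  · rw [← map_mul, ← map_mul, h3]
  · rw [← map_inv, ← map_mul, ← map_inv, ← map_mul, h4]

theorem isPGroup_mulAut_of_equiv {X Y : Type*} [Group X] [Group Y] (e : X ≃* Y)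
    (h : IsPGroup 2 (MulAut X)) : IsPGroup 2 (MulAut Y) :=
  h.of_equiv (MulAut.congr e)

/-- a subgroup of a generalized quaternion group has a 2-group of automorphisms or is quaternion
of order 8 -/
theorem quat_subgroup_dichotomy (n : ℕ) (R : Subgroup (QuaternionGroup (2 ^ n))) :
    IsPGroup 2 (MulAut R) ∨ QData R := by
  classical
  have : NeZero (2 ^ n) := ⟨by positivity⟩
  set A : Subgroup (QuaternionGroup (2 ^ n)) := zpowers (QuaternionGroup.a 1) with hA
  have hcardT : Nat.card (QuaternionGroup (2 ^ n)) = 2 ^ (n + 2) := by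
    rw [Nat.card_eq_fintype_card, QuaternionGroup.card]; ring
  have hT2 : IsPGroup 2 (QuaternionGroup (2 ^ n)) := IsPGroup.of_card hcardT
  have hK2 : IsPGroup 2 R := hT2.to_subgroup R
  have hAmem : ∀ i : ZMod (2 * 2 ^ n), QuaternionGroup.a i ∈ A := by
    intro i
    have h1 : QuaternionGroup.a i = (QuaternionGroup.a 1) ^ i.val := by
      rw [QuaternionGroup.a_one_pow, ZMod.natCast_zmod_val]
    rw [h1]
    exact pow_mem (mem_zpowers _) _
  have hAform : ∀ y ∈ A, ∃ j : ZMod (2 * 2 ^ n), y = QuaternionGroup.a j := by
    intro y hy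
    rw [hA, ← mem_powers_iff_mem_zpowers, Submonoid.mem_powers_iff] at hy
    obtain ⟨k, rfl⟩ := hy
    exact ⟨k, QuaternionGroup.a_one_pow k⟩
  have hcyc : IsCyclic R → IsPGroup 2 (MulAut R) := by
    intro _
    obtain ⟨k, hk⟩ := (IsPGroup.iff_card).1 hK2
    apply IsPGroup.of_card (n := k - 1)
    rw [IsCyclic.card_mulAut, hk]
    rcases Nat.eq_zero_or_pos k with rfl | hkpos
    · simp
    · rw [Nat.totient_prime_pow Nat.prime_two hkpos]; simp
  by_cases hKA : R ≤ A
  · left
    exact hcyc (Subgroup.isCyclic_of_le hKA)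
  · obtain ⟨g, hgK, hgA⟩ := SetLike.not_le_iff_exists.mp hKA
    obtain ⟨i, rfl⟩ : ∃ i, g = QuaternionGroup.xa i := by
      rcases g with i | i
      · exact absurd (hAmem i) hgA
      · exact ⟨i, rfl⟩
    have : IsCyclic ↥(A ⊓ R) := Subgroup.isCyclic_of_le (inf_le_left : A ⊓ R ≤ A)
    obtain ⟨x0, hx0⟩ := (Subgroup.isCyclic_iff_exists_zpowers_eq_top (A ⊓ R)).mp inferInstance
    have hx0AK : x0 ∈ A ⊓ R := hx0 ▸ mem_zpowers x0
    have hx0K : x0 ∈ R := hx0AK.2
    set x : R := ⟨x0, hx0K⟩ with hxdef
    have hzx : ∀ y : R, y ∈ zpowers x ↔ (y : QuaternionGroup (2 ^ n)) ∈ A := by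
      intro y
      constructor
      · rintro ⟨j, rfl⟩
        have h5 : ((x ^ j : R) : QuaternionGroup (2 ^ n)) = x0 ^ j := by simp [hxdef]
        have h6 : x0 ^ j ∈ A ⊓ R := hx0 ▸ zpow_mem (mem_zpowers x0) j
        change ((x ^ j : R) : QuaternionGroup (2 ^ n)) ∈ A
        rw [h5]
        exact h6.1
      · intro hy
        have h5 : (y : QuaternionGroup (2 ^ n)) ∈ zpowers x0 := by rw [hx0]; exact ⟨hy, y.2⟩
        obtain ⟨j, hj⟩ := h5
        exact ⟨j, Subtype.ext (by simp [hxdef, hj])⟩
    obtain ⟨m, hm⟩ : ∃ m, orderOf x = 2 ^ m := by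
      obtain ⟨m, hm⟩ := hK2 x
      obtain ⟨j, -, hj⟩ := (Nat.dvd_prime_pow Nat.prime_two).mp (orderOf_dvd_of_pow_eq_one hm)
      exact ⟨j, hj⟩
    have hidx : (zpowers x).index = 2 := by
      have h5 : zpowers x = A.subgroupOf R := by
        ext y; rw [hzx, Subgroup.mem_subgroupOf]
      have hAidx : A.index = 2 := by
        have h6 := A.card_mul_index
        rw [hA, Nat.card_zpowers, QuaternionGroup.orderOf_a_one, hcardT] at h6
        have h7 : (2 * 2 ^ n) * 2 = 2 ^ (n + 2) := by ring
        exact Nat.eq_of_mul_eq_mul_left (by positivity) (h6.trans h7.symm)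
      have : A.Normal := Subgroup.normal_of_index_eq_two hAidx
      have h8 : A.relIndex R ∣ A.index := Subgroup.relIndex_dvd_index_of_normal A R
      rw [hAidx] at h8
      have h9 : A.relIndex R ≠ 1 := by
        rw [Ne, Subgroup.relIndex_eq_one]; exact hKA
      rw [h5]
      change A.relIndex R = 2
      rcases (Nat.dvd_prime Nat.prime_two).mp h8 with h | h
      · exact absurd h h9
      · exact h
    have hox : orderOf x = orderOf x0 := Subgroup.orderOf_mk x0 hx0K
    have hcardR : Nat.card R = 2 * orderOf x0 := by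
      rw [← Subgroup.index_mul_card (zpowers x), hidx, Nat.card_zpowers, hox]
    set w : R := ⟨QuaternionGroup.xa i, hgK⟩ with hwdef
    have how : orderOf w = 4 := by
      rw [hwdef, Subgroup.orderOf_mk]; exact QuaternionGroup.orderOf_xa i
    by_cases hx04 : x0 ^ 4 = 1
    · have hord : orderOf x0 ∣ 4 := orderOf_dvd_of_pow_eq_one hx04
      by_cases h4 : orderOf x0 = 4
      · right
        refine ⟨by rw [hcardR, h4], x, w, by rw [hox, h4], ?_, ?_, ?_⟩
        · rw [hzx]; exact hgA
        · obtain ⟨j, hj⟩ := hAform x0 hx0AK.1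
          apply Subtype.ext
          show QuaternionGroup.xa i * QuaternionGroup.xa i = x0 * x0
          rw [hj, QuaternionGroup.xa_mul_xa, QuaternionGroup.a_mul_a]
          congr 1
          -- `j + j` is the element of order two
          set t : ZMod (2 * 2 ^ n) := j + j with ht
          have ht2 : t + t = 0 := by
            have h5 : (QuaternionGroup.a j : QuaternionGroup (2 ^ n)) ^ 4 = 1 := by
              rw [← hj]; exact hx04
            have h6 : (QuaternionGroup.a j : QuaternionGroup (2 ^ n)) ^ 4
                = QuaternionGroup.a (j + j + (j + j)) := by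
              rw [show (4 : ℕ) = 2 + 2 from rfl, pow_add, pow_two, QuaternionGroup.a_mul_a,
                QuaternionGroup.a_mul_a]
            rw [h6, QuaternionGroup.one_def] at h5
            exact QuaternionGroup.a.inj h5
          have ht0 : t ≠ 0 := by
            intro h0
            have h5 : (QuaternionGroup.a j : QuaternionGroup (2 ^ n)) ^ 2 = 1 := by
              rw [pow_two, QuaternionGroup.a_mul_a, ← ht, h0, QuaternionGroup.a_zero]
            have h6 := orderOf_dvd_of_pow_eq_one h5
            rw [← hj, h4] at h6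
            omega
          have h1 : ((t.val + t.val : ℕ) : ZMod (2 * 2 ^ n)) = 0 := by
            push_cast; rw [ZMod.natCast_zmod_val]; exact ht2
          have h2 : (2 * 2 ^ n) ∣ t.val + t.val := (ZMod.natCast_eq_zero_iff _ _).mp h1
          have h3 : t.val < 2 * 2 ^ n := ZMod.val_lt t
          have h4' : t.val ≠ 0 := by rwa [Ne, ZMod.val_eq_zero]
          obtain ⟨k, hk⟩ := h2
          have hk1 : k = 1 := by
            have hpos : 0 < 2 ^ n := by positivity
            rcases k with _ | _ | k
            · omega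
            · rfl
            · exfalso
              have : 2 * 2 ^ n * (k + 1 + 1) ≥ 2 * 2 ^ n * 2 := Nat.mul_le_mul_left _ (by omega)
              omega
          have h5 : t.val = 2 ^ n := by rw [hk1] at hk; omega
          have h6 : t = ((2 ^ n : ℕ) : ZMod (2 * 2 ^ n)) :=
            (ZMod.natCast_zmod_val t).symm.trans (congrArg Nat.cast h5)
          rw [h6]; ring
        · obtain ⟨j, hj⟩ := hAform x0 hx0AK.1
          have hinv : x0⁻¹ = QuaternionGroup.a (-j) := by
            apply inv_eq_of_mul_eq_one_right
            rw [hj, QuaternionGroup.a_mul_a, add_neg_cancel, QuaternionGroup.a_zero]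
          have e1 : w * x = x⁻¹ * w := by
            apply Subtype.ext
            show QuaternionGroup.xa i * x0 = x0⁻¹ * QuaternionGroup.xa i
            rw [hinv, hj, QuaternionGroup.xa_mul_a, QuaternionGroup.a_mul_xa]
            congr 1; ring
          rw [e1]; group
      · left
        apply hcyc
        have h2 : orderOf x0 ≤ 2 := by
          have h5 : orderOf x0 ∈ Nat.divisors 4 := Nat.mem_divisors.mpr ⟨hord, by norm_num⟩
          have h6 : Nat.divisors 4 = {1, 2, 4} := by decide
          rw [h6] at h5
          simp only [Finset.mem_insert, Finset.mem_singleton] at h5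
          rcases h5 with h5 | h5 | h5
          · omega
          · omega
          · exact absurd h5 h4
        have h3 : zpowers w = ⊤ := by
          apply Subgroup.eq_top_of_le_card
          rw [Nat.card_zpowers, how, hcardR]; omega
        exact isCyclic_iff_exists_zpowers_eq_top.mpr ⟨w, h3⟩
    · left
      refine isPGroup_two_mulAut_of_char_cyclic_index_two x m hm hidx ?_
      intro α
      by_contra hα
      rw [hzx] at hα
      have h4 : (α x) ^ 4 = 1 := by
        apply Subtype.ext
        rw [Subgroup.coe_pow, Subgroup.coe_one]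
        rcases hv : ((α x : R) : QuaternionGroup (2 ^ n)) with j | j
        · rw [hv] at hα; exact absurd (hAmem j) hα
        · exact QuaternionGroup.xa_pow_four j
      have h5 : x ^ 4 = 1 := by
        apply α.injective
        rw [map_pow, h4, map_one]
      apply hx04
      have h6 := congrArg Subtype.val h5
      simpa [hxdef] using h6

end Cfsg.Agent.Helper18.QuatSub
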