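import Mathlib
import Cfsg.Agent.S2301

set_option autoImplicit false

/-!
# Recognising `SL(2,3)`

A group generated by `a`, `c` with `a⁴ = 1`, `c³ = 1` and, for `b = c a c⁻¹`,
`b² = a²`, `b a b⁻¹ = a⁻¹`, `c b c⁻¹ = a b` has at most 24 elements; any two such groups with
at least 24 elements are isomorphic, and `SL(2,3)` is one of them.
-/

namespace Cfsg.Agent.Helper18.SL23Rec

/-- the relations, for a pair of elements of a group -/
def Rel {G : Type*} [Group G] (a c : G) : Prop :=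
  a ^ 4 = 1 ∧ c ^ 3 = 1 ∧ (c * a * c⁻¹) * (c * a * c⁻¹) = a * a ∧
    (c * a * c⁻¹) * a * (c * a * c⁻¹)⁻¹ = a⁻¹ ∧ c * (c * a * c⁻¹) * c⁻¹ = a * (c * a * c⁻¹)

/-- a group generated by a pair satisfying the relations has at most 24 elements -/
theorem card_le {G : Type*} [Group G] (a c : G) (h : Rel a c)
    (hgen : Subgroup.closure ({a, c} : Set G) = ⊤) : Finite G ∧ Nat.card G ≤ 24 := by
  obtain ⟨ha, hc, h1, h2, h3⟩ := h
  set b := c * a * c⁻¹ with hb
  have hca : c * a = b * c := by rw [hb]; group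
  have hba : b * a = a⁻¹ * b := by
    have : b * a = (b * a * b⁻¹) * b := by group
    rw [this, h2]
  have hcb : c * b = a * b * c := by
    have : c * b = (c * b * c⁻¹) * c := by group
    rw [this, h3]
  have hbab : b * a * b = a := by
    rw [hba, mul_assoc, h1]; group
  have a4 : a * a * a * a = 1 := by simpa [pow_succ] using ha
  have c3 : c * c * c = 1 := by simpa [pow_succ] using hc
  -- powers of b
  have hbpow : ∀ m : ℕ, b ^ (2 * m) = a ^ (2 * m) := by
    intro m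
    rw [pow_mul, pow_mul, pow_two, pow_two, h1]
  have hcapow : ∀ i : ℕ, c * a ^ i = b ^ i * c := by
    intro i
    induction i with
    | zero => simp
    | succ i ih => rw [pow_succ, ← mul_assoc, ih, mul_assoc, hca, ← mul_assoc, ← pow_succ]
  let S : Set G := {x | ∃ i k : ℕ, x = a ^ i * c ^ k ∨ x = a ^ i * b * c ^ k}
  have stepa : ∀ x ∈ S, a * x ∈ S := by
    rintro x ⟨i, k, rfl | rfl⟩
    · exact ⟨i + 1, k, Or.inl (by rw [← mul_assoc, ← pow_succ'])⟩
    · exact ⟨i + 1, k, Or.inr (by rw [← mul_assoc, ← mul_assoc, ← pow_succ'])⟩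
  have stepc : ∀ x ∈ S, c * x ∈ S := by
    rintro x ⟨i, k, rfl | rfl⟩
    · rcases Nat.even_or_odd' i with ⟨m, rfl | rfl⟩
      · refine ⟨2 * m, k + 1, Or.inl ?_⟩
        rw [← mul_assoc, hcapow, hbpow, mul_assoc, ← pow_succ']
      · refine ⟨2 * m, k + 1, Or.inr ?_⟩
        rw [← mul_assoc, hcapow, pow_succ, hbpow, mul_assoc, ← pow_succ']
    · rcases Nat.even_or_odd' i with ⟨m, rfl | rfl⟩
      · refine ⟨2 * m + 1, k + 1, Or.inr ?_⟩
        have e : c * (a ^ (2 * m) * b * c ^ k) = (c * a ^ (2 * m)) * b * c ^ k := by group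
        rw [e, hcapow, hbpow, mul_assoc (a ^ (2 * m)) c b, hcb, pow_succ a (2 * m), pow_succ' c k]
        group
      · refine ⟨2 * m + 1, k + 1, Or.inl ?_⟩
        have e : c * (a ^ (2 * m + 1) * b * c ^ k) = (c * a ^ (2 * m + 1)) * b * c ^ k := by group
        rw [e, hcapow, pow_succ b (2 * m), hbpow, mul_assoc (a ^ (2 * m) * b) c b, hcb,
          pow_succ a (2 * m), pow_succ' c k]
        have e2 : a ^ (2 * m) * b * (a * b * c) * c ^ k = a ^ (2 * m) * (b * a * b) * (c * c ^ k) := by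
          group
        rw [e2, hbab]
  have stepa' : ∀ x ∈ S, a⁻¹ * x ∈ S := by
    intro x hx
    have e : a⁻¹ * x = a * (a * (a * x)) := by
      have : a⁻¹ = a * a * a := by
        rw [inv_eq_iff_eq_inv, eq_inv_iff_mul_eq_one, ← mul_assoc, ← mul_assoc]; exact a4
      rw [this]; group
    rw [e]
    exact stepa _ (stepa _ (stepa _ hx))
  have stepc' : ∀ x ∈ S, c⁻¹ * x ∈ S := by
    intro x hx
    have e : c⁻¹ * x = c * (c * x) := by
      have : c⁻¹ = c * c := by
        rw [inv_eq_iff_eq_inv, eq_inv_iff_mul_eq_one, ← mul_assoc]; exact c3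
      rw [this]; group
    rw [e]
    exact stepc _ (stepc _ hx)
  have key : ∀ g : G, (∀ x ∈ S, g * x ∈ S) ∧ (∀ x ∈ S, g⁻¹ * x ∈ S) := by
    intro g
    have hg : g ∈ Subgroup.closure ({a, c} : Set G) := by rw [hgen]; exact Subgroup.mem_top g
    refine Subgroup.closure_induction (p := fun g _ => (∀ x ∈ S, g * x ∈ S) ∧
      (∀ x ∈ S, g⁻¹ * x ∈ S)) ?_ ?_ ?_ ?_ hg
    · intro s hs
      rw [Set.mem_insert_iff, Set.mem_singleton_iff] at hs
      rcases hs with rfl | rfl
      · exact ⟨stepa, stepa'⟩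
      · exact ⟨stepc, stepc'⟩
    · exact ⟨fun x hx => by rwa [one_mul], fun x hx => by rwa [inv_one, one_mul]⟩
    · intro u v _ _ hu hv
      refine ⟨fun x hx => ?_, fun x hx => ?_⟩
      · rw [mul_assoc]; exact hu.1 _ (hv.1 _ hx)
      · rw [mul_inv_rev, mul_assoc]; exact hv.2 _ (hu.2 _ hx)
    · intro u _ hu
      exact ⟨hu.2, fun x hx => by rw [inv_inv]; exact hu.1 x hx⟩
  have hall : ∀ g : G, g ∈ S := by
    intro g
    have h1S : (1 : G) ∈ S := ⟨0, 0, Or.inl (by simp)⟩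
    have := (key g).1 1 h1S
    rwa [mul_one] at this
  let f : Fin 4 × Fin 2 × Fin 3 → G := fun p => a ^ (p.1 : ℕ) * b ^ (p.2.1 : ℕ) * c ^ (p.2.2 : ℕ)
  have hf : Function.Surjective f := by
    intro g
    obtain ⟨i, k, rfl | rfl⟩ := hall g
    · refine ⟨(⟨i % 4, Nat.mod_lt _ (by norm_num)⟩, 0, ⟨k % 3, Nat.mod_lt _ (by norm_num)⟩), ?_⟩
      show a ^ (i % 4) * b ^ 0 * c ^ (k % 3) = a ^ i * c ^ k
      rw [pow_zero, mul_one, pow_eq_pow_mod i ha, pow_eq_pow_mod k hc]
    · refine ⟨(⟨i % 4, Nat.mod_lt _ (by norm_num)⟩, 1, ⟨k % 3, Nat.mod_lt _ (by norm_num)⟩), ?_⟩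
      show a ^ (i % 4) * b ^ 1 * c ^ (k % 3) = a ^ i * b * c ^ k
      rw [pow_one, pow_eq_pow_mod i ha, pow_eq_pow_mod k hc]
  have hfin : Finite G := Finite.of_surjective f hf
  refine ⟨hfin, ?_⟩
  have h24 := Nat.card_le_card_of_surjective f hf
  simpa [Nat.card_prod] using h24

/-- The relators of the presentation. -/
def rels : Set (FreeGroup (Fin 2)) :=
  {FreeGroup.of (0 : Fin 2) ^ 4, FreeGroup.of (1 : Fin 2) ^ 3,
    (FreeGroup.of (1 : Fin 2) * FreeGroup.of 0 * (FreeGroup.of 1)⁻¹) *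
      (FreeGroup.of (1 : Fin 2) * FreeGroup.of 0 * (FreeGroup.of 1)⁻¹) *
      (FreeGroup.of (0 : Fin 2) * FreeGroup.of 0)⁻¹,
    (FreeGroup.of (1 : Fin 2) * FreeGroup.of 0 * (FreeGroup.of 1)⁻¹) * FreeGroup.of 0 *
      (FreeGroup.of (1 : Fin 2) * FreeGroup.of 0 * (FreeGroup.of 1)⁻¹)⁻¹ * FreeGroup.of 0,
    FreeGroup.of (1 : Fin 2) * (FreeGroup.of (1 : Fin 2) * FreeGroup.of 0 * (FreeGroup.of 1)⁻¹) *
      (FreeGroup.of 1)⁻¹ *
      (FreeGroup.of (0 : Fin 2) * (FreeGroup.of (1 : Fin 2) * FreeGroup.of 0 * (FreeGroup.of 1)⁻¹))⁻¹}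

/-- The presented group. -/
abbrev P : Type := PresentedGroup rels

/-- The first generator. -/
def pa : P := PresentedGroup.of 0
/-- The second generator. -/
def pc : P := PresentedGroup.of 1

theorem rel_P : Rel pa pc := by
  refine ⟨?_, ?_, ?_, ?_, ?_⟩
  · have h : (PresentedGroup.mk rels) (FreeGroup.of (0 : Fin 2) ^ 4) = 1 :=
      PresentedGroup.one_of_mem (Or.inl rfl)
    rw [map_pow] at h
    exact h
  · have h : (PresentedGroup.mk rels) (FreeGroup.of (1 : Fin 2) ^ 3) = 1 :=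
      PresentedGroup.one_of_mem (Or.inr (Or.inl rfl))
    rw [map_pow] at h
    exact h
  · have h : (PresentedGroup.mk rels) ((FreeGroup.of (1 : Fin 2) * FreeGroup.of 0 *
        (FreeGroup.of 1)⁻¹) * (FreeGroup.of (1 : Fin 2) * FreeGroup.of 0 * (FreeGroup.of 1)⁻¹) *
        (FreeGroup.of (0 : Fin 2) * FreeGroup.of 0)⁻¹) = 1 :=
      PresentedGroup.one_of_mem (Or.inr (Or.inr (Or.inl rfl)))
    simp only [map_mul, map_inv] at h
    exact mul_inv_eq_one.1 h
  · have h : (PresentedGroup.mk rels) ((FreeGroup.of (1 : Fin 2) * FreeGroup.of 0 *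
        (FreeGroup.of 1)⁻¹) * FreeGroup.of 0 *
        (FreeGroup.of (1 : Fin 2) * FreeGroup.of 0 * (FreeGroup.of 1)⁻¹)⁻¹ * FreeGroup.of 0) = 1 :=
      PresentedGroup.one_of_mem (Or.inr (Or.inr (Or.inr (Or.inl rfl))))
    simp only [map_mul, map_inv] at h
    exact eq_inv_of_mul_eq_one_left h
  · have h : (PresentedGroup.mk rels) (FreeGroup.of (1 : Fin 2) * (FreeGroup.of (1 : Fin 2) *
        FreeGroup.of 0 * (FreeGroup.of 1)⁻¹) * (FreeGroup.of 1)⁻¹ *
        (FreeGroup.of (0 : Fin 2) * (FreeGroup.of (1 : Fin 2) * FreeGroup.of 0 *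
          (FreeGroup.of 1)⁻¹))⁻¹) = 1 :=
      PresentedGroup.one_of_mem (Or.inr (Or.inr (Or.inr (Or.inr rfl))))
    simp only [map_mul, map_inv] at h
    exact mul_inv_eq_one.1 h

theorem pgen : Subgroup.closure ({pa, pc} : Set P) = ⊤ := by
  rw [eq_top_iff, ← PresentedGroup.closure_range_of rels, Subgroup.closure_le]
  rintro _ ⟨i, rfl⟩
  fin_cases i
  · exact Subgroup.subset_closure (Or.inl rfl)
  · exact Subgroup.subset_closure (Or.inr rfl)

theorem finite_P : Finite P := (card_le pa pc rel_P pgen).1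

theorem card_P_le : Nat.card P ≤ 24 := (card_le pa pc rel_P pgen).2

/-- The universal property of the presentation. -/
theorem exists_hom {G : Type*} [Group G] (a c : G) (h : Rel a c) :
    ∃ φ : P →* G, φ pa = a ∧ φ pc = c := by
  obtain ⟨ha, hc, h1, h2, h3⟩ := h
  have hrel : ∀ r ∈ rels, FreeGroup.lift ![a, c] r = 1 := by
    intro r hr
    rcases hr with rfl | rfl | rfl | rfl | rfl
    · rw [map_pow, FreeGroup.lift_apply_of]; exact ha
    · rw [map_pow, FreeGroup.lift_apply_of]; exact hc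
    · simp only [map_mul, map_inv, FreeGroup.lift_apply_of]
      show c * a * c⁻¹ * (c * a * c⁻¹) * (a * a)⁻¹ = 1
      rw [h1, mul_inv_cancel]
    · simp only [map_mul, map_inv, FreeGroup.lift_apply_of]
      show c * a * c⁻¹ * a * (c * a * c⁻¹)⁻¹ * a = 1
      rw [h2, inv_mul_cancel]
    · simp only [map_mul, map_inv, FreeGroup.lift_apply_of]
      show c * (c * a * c⁻¹) * c⁻¹ * (a * (c * a * c⁻¹))⁻¹ = 1
      rw [h3, mul_inv_cancel]
  exact ⟨PresentedGroup.toGroup hrel, PresentedGroup.toGroup.of hrel,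
    PresentedGroup.toGroup.of hrel⟩

/-- a group of order at least 24 generated by a pair satisfying the relations is isomorphic
to the presented group -/
theorem exists_iso_P {G : Type*} [Group G] (a c : G) (h : Rel a c)
    (hgen : Subgroup.closure ({a, c} : Set G) = ⊤) (hG : 24 ≤ Nat.card G) :
    Nonempty (P ≃* G) := by
  obtain ⟨φ, h1, h2⟩ := exists_hom a c h
  have hs : Function.Surjective φ := by
    rw [← MonoidHom.range_eq_top, eq_top_iff, ← hgen, Subgroup.closure_le]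
    rintro g (rfl | rfl)
    · exact ⟨pa, h1⟩
    · exact ⟨pc, h2⟩
  have := finite_P
  have hb : Function.Bijective φ := hs.bijective_of_nat_card_le (le_trans card_P_le hG)
  exact ⟨MulEquiv.ofBijective φ hb⟩

local notation "S23" => Matrix.SpecialLinearGroup (Fin 2) (ZMod 3)

/-- Three is prime. -/
theorem fact3 : Fact (Nat.Prime 3) := ⟨by norm_num⟩

attribute [local instance] fact3

/-- the matrix `a` -/
def mA : S23 := ⟨!![0, 1; -1, 0], by rw [Matrix.det_fin_two_of]; decide⟩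
/-- the matrix `c` -/
def mC : S23 := ⟨!![1, 0; 1, 1], by rw [Matrix.det_fin_two_of]; decide⟩

theorem rel_S23 : Rel mA mC := by
  refine ⟨?_, ?_, ?_, ?_, ?_⟩ <;> decide

theorem all_S23 : ∀ x : S23, ∃ i : Fin 4, ∃ j : Fin 2, ∃ k : Fin 3,
    x = mA ^ (i : ℕ) * (mC * mA * mC⁻¹) ^ (j : ℕ) * mC ^ (k : ℕ) := by
  decide +kernel

theorem closure_S23 : Subgroup.closure ({mA, mC} : Set S23) = ⊤ := by
  have hx : mA ∈ Subgroup.closure ({mA, mC} : Set S23) := Subgroup.subset_closure (Or.inl rfl)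
  have hy : mC ∈ Subgroup.closure ({mA, mC} : Set S23) := Subgroup.subset_closure (Or.inr rfl)
  rw [eq_top_iff]
  intro x _
  obtain ⟨i, j, k, rfl⟩ := all_S23 x
  exact Subgroup.mul_mem _ (Subgroup.mul_mem _ (Subgroup.pow_mem _ hx _)
    (Subgroup.pow_mem _ (Subgroup.mul_mem _ (Subgroup.mul_mem _ hy hx) (Subgroup.inv_mem _ hy)) _))
    (Subgroup.pow_mem _ hy _)

theorem card_S23 : Nat.card S23 = 24 := by
  rw [Cfsg.Agent.S2301.card_SL2, ZMod.card]
  norm_num

/-- a group of order at least 24 generated by a pair satisfying the relations is isomorphic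
to `SL(2,3)` -/
theorem exists_iso {G : Type*} [Group G] (a c : G) (h : Rel a c)
    (hgen : Subgroup.closure ({a, c} : Set G) = ⊤) (hG : 24 ≤ Nat.card G) :
    Nonempty (G ≃* Matrix.SpecialLinearGroup (Fin 2) (ZMod 3)) := by
  obtain ⟨e₁⟩ := exists_iso_P a c h hgen hG
  obtain ⟨e₂⟩ := exists_iso_P mA mC rel_S23 closure_S23 (by rw [card_S23])
  exact ⟨e₁.symm.trans e₂⟩

end Cfsg.Agent.Helper18.SL23Rec
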