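import Mathlib

/-!
# Finite `p`-groups with an abelian subgroup of index `p`
-/

set_option autoImplicit false

namespace Cfsg.Agent.Helper18.AbIndexP

variable {S : Type*} [Group S] [Finite S] {p : ℕ} [Fact p.Prime]

/-- a subgroup of index `p` in a `p`-group is normal -/
theorem aip_normal (hS : IsPGroup p S) (A : Subgroup S) (hAi : A.index = p) : A.Normal := by
  apply Subgroup.normal_of_index_eq_minFac_card
  obtain ⟨n, hn⟩ := IsPGroup.iff_card.mp hS
  have hp : p.Prime := Fact.out
  have hn0 : n ≠ 0 := by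
    rintro rfl
    have h1 := A.index_dvd_card
    rw [hAi, hn, pow_zero] at h1
    exact hp.one_lt.ne' (Nat.dvd_one.mp h1)
  rw [hAi, hn, hp.pow_minFac hn0]

theorem aip_decomp (A : Subgroup S) [A.Normal] (hAi : A.index = p) (s : S) (hs : s ∉ A) (g : S) :
    ∃ a ∈ A, ∃ k : ℕ, g = a * s ^ k := by
  have hcard : Nat.card (S ⧸ A) = p := by
    rw [← Subgroup.index_eq_card]
    exact hAi
  have hne : (QuotientGroup.mk s : S ⧸ A) ≠ 1 := by
    rw [Ne, QuotientGroup.eq_one_iff]
    exact hs
  have htop := zpowers_eq_top_of_prime_card hcard hne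
  have hmem : (QuotientGroup.mk g : S ⧸ A) ∈ Subgroup.zpowers (QuotientGroup.mk s : S ⧸ A) := by
    rw [htop]
    trivial
  rw [← mem_powers_iff_mem_zpowers] at hmem
  obtain ⟨k, hk⟩ := hmem
  refine ⟨g * (s ^ k)⁻¹, ?_, k, by group⟩
  rw [← QuotientGroup.eq_one_iff, QuotientGroup.mk_mul, QuotientGroup.mk_inv, QuotientGroup.mk_pow]
  have hk' : (QuotientGroup.mk s : S ⧸ A) ^ k = QuotientGroup.mk g := hk
  rw [hk', mul_inv_cancel]

theorem aip_comm (A : Subgroup S) (hA : IsMulCommutative A) (x y : S) (hx : x ∈ A) (hy : y ∈ A) :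
    x * y = y * x :=
  congrArg Subtype.val (hA.is_comm.comm ⟨x, hx⟩ ⟨y, hy⟩)

/-- the commutator map `a ↦ [a, s]` on an abelian normal subgroup -/
def aip_hom (A : Subgroup S) [hN : A.Normal] (hA : IsMulCommutative A) (s : S) : A →* S where
  toFun a := a.1 * s * a.1⁻¹ * s⁻¹
  map_one' := by simp
  map_mul' a b := by
    have h1 : s * b.1⁻¹ * s⁻¹ ∈ A := hN.conj_mem _ (A.inv_mem b.2) s
    have h2 : s * a.1⁻¹ * s⁻¹ ∈ A := hN.conj_mem _ (A.inv_mem a.2) s
    have hc := aip_comm A hA (b.1 * (s * b.1⁻¹ * s⁻¹)) (s * a.1⁻¹ * s⁻¹) (A.mul_mem b.2 h1) h2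
    show (a.1 * b.1) * s * (a.1 * b.1)⁻¹ * s⁻¹ = a.1 * s * a.1⁻¹ * s⁻¹ * (b.1 * s * b.1⁻¹ * s⁻¹)
    calc (a.1 * b.1) * s * (a.1 * b.1)⁻¹ * s⁻¹
        = a.1 * (b.1 * (s * b.1⁻¹ * s⁻¹) * (s * a.1⁻¹ * s⁻¹)) := by group
      _ = a.1 * ((s * a.1⁻¹ * s⁻¹) * (b.1 * (s * b.1⁻¹ * s⁻¹))) := by rw [hc]
      _ = a.1 * s * a.1⁻¹ * s⁻¹ * (b.1 * s * b.1⁻¹ * s⁻¹) := by group

theorem aip_hom_apply (A : Subgroup S) [A.Normal] (hA : IsMulCommutative A) (s : S) (a : A) :
    aip_hom A hA s a = a.1 * s * a.1⁻¹ * s⁻¹ := rfl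

/-- the center lies in every abelian subgroup of index `p` of a non-abelian group -/
theorem aip_center_le (hna : ¬ IsMulCommutative S) (A : Subgroup S) [A.Normal]
    (hA : IsMulCommutative A) (hAi : A.index = p) : Subgroup.center S ≤ A := by
  intro z hz
  by_contra hzA
  apply hna
  refine ⟨⟨fun g h => ?_⟩⟩
  obtain ⟨a, ha, k, rfl⟩ := aip_decomp A hAi z hzA g
  obtain ⟨b, hb, l, rfl⟩ := aip_decomp A hAi z hzA h
  have hzc : ∀ x : S, Commute z x := fun x => (Subgroup.mem_center_iff.mp hz x).symm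
  have hab : Commute a b := aip_comm A hA a b ha hb
  exact (hab.mul_right ((hzc a).symm.pow_right l)).mul_left
    (((hzc b).pow_left k).mul_right ((Commute.refl z).pow_pow k l))

/-- the kernel of the commutator map is the center -/
theorem aip_ker (hna : ¬ IsMulCommutative S) (A : Subgroup S) [A.Normal]
    (hA : IsMulCommutative A) (hAi : A.index = p) (s : S) (hs : s ∉ A) :
    (aip_hom A hA s).ker.map A.subtype = Subgroup.center S := by
  ext z
  constructor
  · rintro ⟨a, ha, rfl⟩
    rw [SetLike.mem_coe, MonoidHom.mem_ker, aip_hom_apply] at ha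
    have has : a.1 * s = s * a.1 := by
      have h1 : a.1 * s = (a.1 * s * a.1⁻¹ * s⁻¹) * (s * a.1) := by group
      rw [h1, ha, one_mul]
    rw [Subgroup.mem_center_iff]
    intro g
    obtain ⟨b, hb, k, rfl⟩ := aip_decomp A hAi s hs g
    have h1 : Commute a.1 b := aip_comm A hA a.1 b a.2 hb
    have h2 : Commute a.1 s := has
    exact ((h1.mul_right (h2.pow_right k)).eq).symm
  · intro hz
    have hzA := aip_center_le hna A hA hAi hz
    refine ⟨⟨z, hzA⟩, ?_, rfl⟩
    rw [SetLike.mem_coe, MonoidHom.mem_ker, aip_hom_apply]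
    have h1 := Subgroup.mem_center_iff.mp hz s
    show z * s * z⁻¹ * s⁻¹ = 1
    rw [← h1]
    group

/-- the range of the commutator map is the commutator subgroup -/
theorem aip_range (A : Subgroup S) [hN : A.Normal] (hA : IsMulCommutative A) (hAi : A.index = p)
    (s : S) (hs : s ∉ A) : (aip_hom A hA s).range = commutator S := by
  apply le_antisymm
  · rintro _ ⟨a, rfl⟩
    rw [aip_hom_apply]
    exact Subgroup.commutator_mem_commutator (Subgroup.mem_top a.1) (Subgroup.mem_top s)
  · have hRA : (aip_hom A hA s).range ≤ A := by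
      rintro _ ⟨a, rfl⟩
      rw [aip_hom_apply]
      have h1 : s * a.1⁻¹ * s⁻¹ ∈ A := hN.conj_mem _ (A.inv_mem a.2) s
      have h2 : a.1 * s * a.1⁻¹ * s⁻¹ = a.1 * (s * a.1⁻¹ * s⁻¹) := by group
      rw [h2]
      exact A.mul_mem a.2 h1
    have hsR : ∀ r ∈ (aip_hom A hA s).range, s * r * s⁻¹ ∈ (aip_hom A hA s).range := by
      rintro _ ⟨a, rfl⟩
      refine ⟨⟨s * a.1 * s⁻¹, hN.conj_mem _ a.2 s⟩, ?_⟩
      rw [aip_hom_apply, aip_hom_apply]
      show s * a.1 * s⁻¹ * s * (s * a.1 * s⁻¹)⁻¹ * s⁻¹ = s * (a.1 * s * a.1⁻¹ * s⁻¹) * s⁻¹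
      group
    have hskR : ∀ k : ℕ, ∀ r ∈ (aip_hom A hA s).range,
        s ^ k * r * (s ^ k)⁻¹ ∈ (aip_hom A hA s).range := by
      intro k
      induction k with
      | zero =>
        intro r hr
        simpa using hr
      | succ k ih =>
        intro r hr
        have h1 := hsR _ (ih r hr)
        have h2 : s ^ (k + 1) * r * (s ^ (k + 1))⁻¹ = s * (s ^ k * r * (s ^ k)⁻¹) * s⁻¹ := by
          rw [pow_succ']
          group
        rw [h2]
        exact h1
    have hnorm : (aip_hom A hA s).range.Normal := by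
      refine ⟨fun r hr g => ?_⟩
      obtain ⟨a, ha, k, rfl⟩ := aip_decomp A hAi s hs g
      have h1 := hskR k r hr
      have h2 : a * s ^ k * r * (a * s ^ k)⁻¹ = a * (s ^ k * r * (s ^ k)⁻¹) * a⁻¹ := by group
      rw [h2, aip_comm A hA a _ ha (hRA h1), mul_inv_cancel_right]
      exact h1
    rw [commutator_def, Subgroup.commutator_le]
    intro g _ h _
    rw [← QuotientGroup.eq_one_iff, commutatorElement_def, QuotientGroup.mk_mul, QuotientGroup.mk_mul,
      QuotientGroup.mk_mul, QuotientGroup.mk_inv, QuotientGroup.mk_inv]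
    have hcomm : Commute (QuotientGroup.mk g : S ⧸ (aip_hom A hA s).range) (QuotientGroup.mk h) := by
      obtain ⟨a, ha, k, rfl⟩ := aip_decomp A hAi s hs g
      obtain ⟨b, hb, l, rfl⟩ := aip_decomp A hAi s hs h
      have hab : Commute (QuotientGroup.mk a : S ⧸ (aip_hom A hA s).range) (QuotientGroup.mk b) := by
        show (QuotientGroup.mk a : S ⧸ (aip_hom A hA s).range) * QuotientGroup.mk b
          = QuotientGroup.mk b * QuotientGroup.mk a
        rw [← QuotientGroup.mk_mul, ← QuotientGroup.mk_mul, aip_comm A hA a b ha hb]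
      have has : ∀ c ∈ A, Commute (QuotientGroup.mk c : S ⧸ (aip_hom A hA s).range)
          (QuotientGroup.mk s) := by
        intro c hc
        show (QuotientGroup.mk c : S ⧸ (aip_hom A hA s).range) * QuotientGroup.mk s
          = QuotientGroup.mk s * QuotientGroup.mk c
        rw [← QuotientGroup.mk_mul, ← QuotientGroup.mk_mul, QuotientGroup.eq]
        have h1 : (aip_hom A hA s) ⟨c⁻¹, A.inv_mem hc⟩ ∈ (aip_hom A hA s).range := ⟨_, rfl⟩
        have h2 := hnorm.conj_mem _ h1 s⁻¹
        rw [aip_hom_apply] at h2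
        have h3 : (c * s)⁻¹ * (s * c) = s⁻¹ * (c⁻¹ * s * c⁻¹⁻¹ * s⁻¹) * s⁻¹⁻¹ := by group
        rw [h3]
        exact h2
      rw [QuotientGroup.mk_mul, QuotientGroup.mk_mul, QuotientGroup.mk_pow, QuotientGroup.mk_pow]
      exact (hab.mul_right ((has a ha).pow_right l)).mul_left
        ((((has b hb).symm).pow_left k).mul_right ((Commute.refl _).pow_pow k l))
    rw [hcomm.eq]
    group

/-- `[S : Z(S)] = p · |S'|` -/
theorem aip_index_center (hS : IsPGroup p S) (hna : ¬ IsMulCommutative S) (A : Subgroup S)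
    (hA : IsMulCommutative A) (hAi : A.index = p) :
    (Subgroup.center S).index = p * Nat.card (commutator S) := by
  have hN : A.Normal := aip_normal hS A hAi
  obtain ⟨s, hs⟩ : ∃ s : S, s ∉ A := by
    by_contra h
    push Not at h
    have h1 : A = ⊤ := (Subgroup.eq_top_iff' A).mpr h
    rw [h1, Subgroup.index_top] at hAi
    exact (Fact.out : p.Prime).one_lt.ne hAi
  have h1 := Subgroup.card_mul_index (aip_hom A hA s).ker
  rw [Subgroup.index_ker, aip_range A hA hAi s hs] at h1
  have h2 : Nat.card (aip_hom A hA s).ker = Nat.card (Subgroup.center S) := by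
    rw [← aip_ker hna A hA hAi s hs, Subgroup.card_map_of_injective A.subtype_injective]
  have h3 := Subgroup.card_mul_index A
  have h4 := Subgroup.card_mul_index (Subgroup.center S)
  rw [h2] at h1
  rw [hAi, ← h1] at h3
  have hZpos : 0 < Nat.card (Subgroup.center S) := Nat.card_pos
  have h5 : Nat.card (Subgroup.center S) * (Subgroup.center S).index
      = Nat.card (Subgroup.center S) * (p * Nat.card (commutator S)) := by
    rw [h4, ← h3]
    ring
  exact Nat.eq_of_mul_eq_mul_left hZpos h5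

section Sq

variable (hna : ¬ IsMulCommutative S) (hZ : (Subgroup.center S).index = p ^ 2)

include hna hZ

theorem aip_orderOf (g : S) (hg : g ∉ Subgroup.center S) :
    orderOf (QuotientGroup.mk g : S ⧸ Subgroup.center S) = p := by
  have hp : p.Prime := Fact.out
  have hcard : Nat.card (S ⧸ Subgroup.center S) = p ^ 2 := by
    rw [← Subgroup.index_eq_card]
    exact hZ
  have h1 : orderOf (QuotientGroup.mk g : S ⧸ Subgroup.center S) ∣ p ^ 2 := by
    rw [← hcard]
    exact orderOf_dvd_natCard _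
  obtain ⟨i, hi, hi'⟩ := (Nat.dvd_prime_pow hp).mp h1
  have hne : (QuotientGroup.mk g : S ⧸ Subgroup.center S) ≠ 1 := by
    rw [Ne, QuotientGroup.eq_one_iff]
    exact hg
  interval_cases i
  · rw [pow_zero, orderOf_eq_one_iff] at hi'
    exact absurd hi' hne
  · rw [hi', pow_one]
  · exfalso
    apply hna
    have hcyc : IsCyclic (S ⧸ Subgroup.center S) :=
      isCyclic_of_orderOf_eq_card _ (by rw [hi', hcard])
    have hker : (QuotientGroup.mk' (Subgroup.center S)).ker ≤ Subgroup.center S := by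
      rw [QuotientGroup.ker_mk']
    exact MonoidHom.isMulCommutative_of_isCyclic_of_ker_le_center
      (QuotientGroup.mk' (Subgroup.center S)) hker

theorem aip_pow (x : S ⧸ Subgroup.center S) : x ^ p = 1 := by
  obtain ⟨g, rfl⟩ := QuotientGroup.mk_surjective x
  by_cases hg : g ∈ Subgroup.center S
  · rw [(QuotientGroup.eq_one_iff g).mpr hg, one_pow]
  · rw [← aip_orderOf hna hZ g hg]
    exact pow_orderOf_eq_one _

theorem aip_through (g : S) (hg : g ∉ Subgroup.center S) :
    IsMulCommutative ((Subgroup.zpowers (QuotientGroup.mk g : S ⧸ Subgroup.center S)).comap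
        (QuotientGroup.mk' (Subgroup.center S))) ∧
      ((Subgroup.zpowers (QuotientGroup.mk g : S ⧸ Subgroup.center S)).comap
        (QuotientGroup.mk' (Subgroup.center S))).index = p ∧
      ∀ x ∈ (Subgroup.zpowers (QuotientGroup.mk g : S ⧸ Subgroup.center S)).comap
        (QuotientGroup.mk' (Subgroup.center S)), ∃ i : ℤ, ∃ z ∈ Subgroup.center S,
          x = g ^ i * z := by
  have hp : p.Prime := Fact.out
  have hcard : Nat.card (S ⧸ Subgroup.center S) = p ^ 2 := by
    rw [← Subgroup.index_eq_card]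
    exact hZ
  have hform : ∀ x ∈ (Subgroup.zpowers (QuotientGroup.mk g : S ⧸ Subgroup.center S)).comap
        (QuotientGroup.mk' (Subgroup.center S)), ∃ i : ℤ, ∃ z ∈ Subgroup.center S,
          x = g ^ i * z := by
    intro x hx
    rw [Subgroup.mem_comap] at hx
    obtain ⟨i, hi⟩ := hx
    refine ⟨i, (g ^ i)⁻¹ * x, ?_, by group⟩
    rw [← QuotientGroup.eq]
    have hi' : (QuotientGroup.mk g : S ⧸ Subgroup.center S) ^ i = QuotientGroup.mk x := hi
    rw [← hi', QuotientGroup.mk_zpow]
  refine ⟨?_, ?_, hform⟩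
  · refine ⟨⟨fun x y => ?_⟩⟩
    obtain ⟨i, z, hz, hx⟩ := hform x.1 x.2
    obtain ⟨j, w, hw, hy⟩ := hform y.1 y.2
    apply Subtype.ext
    show x.1 * y.1 = y.1 * x.1
    rw [hx, hy]
    have hzc : ∀ u : S, Commute z u := fun u => (Subgroup.mem_center_iff.mp hz u).symm
    have hwc : ∀ u : S, Commute w u := fun u => (Subgroup.mem_center_iff.mp hw u).symm
    have h1 : Commute (g ^ i) (g ^ j) := (Commute.refl g).zpow_zpow i j
    exact ((h1.mul_right (hwc _).symm).mul_left ((hzc _).mul_right (hzc w))).eq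
  · rw [Subgroup.index_comap_of_surjective _ (QuotientGroup.mk'_surjective _)]
    have h1 := Subgroup.card_mul_index
      (Subgroup.zpowers (QuotientGroup.mk g : S ⧸ Subgroup.center S))
    rw [Nat.card_zpowers, aip_orderOf hna hZ g hg, hcard, pow_two] at h1
    exact Nat.eq_of_mul_eq_mul_left hp.pos h1

/-- an abelian subgroup of index `p` is determined by any of its non-central elements -/
theorem aip_unique (hS : IsPGroup p S) (g : S) (hg : g ∉ Subgroup.center S) (B : Subgroup S)
    (hB : IsMulCommutative B) (hBi : B.index = p) (hgB : g ∈ B) :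
    B = (Subgroup.zpowers (QuotientGroup.mk g : S ⧸ Subgroup.center S)).comap
        (QuotientGroup.mk' (Subgroup.center S)) := by
  have hN : B.Normal := aip_normal hS B hBi
  obtain ⟨-, hi, hform⟩ := aip_through hna hZ g hg
  have hZB := aip_center_le hna B hB hBi
  symm
  apply Subgroup.eq_of_le_of_card_ge
  · intro x hx
    obtain ⟨i, z, hz, rfl⟩ := hform x hx
    exact B.mul_mem (B.zpow_mem hgB i) (hZB hz)
  · have h1 := Subgroup.card_mul_index B
    have h2 := Subgroup.card_mul_index ((Subgroup.zpowers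
      (QuotientGroup.mk g : S ⧸ Subgroup.center S)).comap (QuotientGroup.mk' (Subgroup.center S)))
    rw [hBi] at h1
    rw [hi, ← h1] at h2
    exact (Nat.eq_of_mul_eq_mul_right (Fact.out : p.Prime).pos h2).ge

/-- the number of abelian subgroups of index `p` -/
theorem aip_count (hS : IsPGroup p S) :
    Nat.card {B : Subgroup S // IsMulCommutative ↥B ∧ B.index = p} = p + 1 := by
  classical
  have hp : p.Prime := Fact.out
  have e : (Σ B : {B : Subgroup S // IsMulCommutative ↥B ∧ B.index = p},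
      ↥((B.1 : Set S) \ (Subgroup.center S : Set S))) ≃ ↥((Subgroup.center S : Set S)ᶜ) := by
    refine Equiv.ofBijective (fun w => ⟨w.2.1, w.2.2.2⟩) ⟨?_, ?_⟩
    · rintro ⟨⟨B, hB, hBi⟩, ⟨g, hgB, hgZ⟩⟩ ⟨⟨B', hB', hBi'⟩, ⟨g', hgB', hgZ'⟩⟩ h
      have hgg : g = g' := congrArg Subtype.val h
      subst hgg
      have h1 := aip_unique hna hZ hS g hgZ B hB hBi hgB
      have h2 := aip_unique hna hZ hS g hgZ B' hB' hBi' hgB'
      have hBB : B = B' := by rw [h1, ← h2]
      subst hBB
      rfl
    · rintro ⟨g, hg⟩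
      obtain ⟨hc, hi, -⟩ := aip_through hna hZ g hg
      refine ⟨⟨⟨_, hc, hi⟩, ⟨g, ?_, hg⟩⟩, rfl⟩
      show g ∈ (Subgroup.zpowers (QuotientGroup.mk g : S ⧸ Subgroup.center S)).comap
        (QuotientGroup.mk' (Subgroup.center S))
      rw [Subgroup.mem_comap]
      exact Subgroup.mem_zpowers _
  have hcardS := Subgroup.card_mul_index (Subgroup.center S)
  rw [hZ] at hcardS
  have hfib : ∀ B : {B : Subgroup S // IsMulCommutative ↥B ∧ B.index = p},
      Nat.card ↥((B.1 : Set S) \ (Subgroup.center S : Set S))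
        = p * Nat.card (Subgroup.center S) - Nat.card (Subgroup.center S) := by
    rintro ⟨B, hB, hBi⟩
    have hN : B.Normal := aip_normal hS B hBi
    have hZB := aip_center_le hna B hB hBi
    rw [Nat.card_coe_set_eq, Set.ncard_sdiff hZB (Set.toFinite _)]
    have h1 : (B : Set S).ncard = Nat.card B := (Nat.card_coe_set_eq _).symm
    have h2 : (Subgroup.center S : Set S).ncard = Nat.card (Subgroup.center S) :=
      (Nat.card_coe_set_eq _).symm
    rw [h1, h2]
    have h3 := Subgroup.card_mul_index B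
    rw [hBi, ← hcardS] at h3
    have h4 : Nat.card B * p = (p * Nat.card (Subgroup.center S)) * p := by
      rw [h3]
      ring
    rw [Nat.eq_of_mul_eq_mul_right hp.pos h4]
  have hbase : Nat.card ↥((Subgroup.center S : Set S)ᶜ)
      = p ^ 2 * Nat.card (Subgroup.center S) - Nat.card (Subgroup.center S) := by
    rw [Nat.card_coe_set_eq, Set.ncard_compl, ← Nat.card_coe_set_eq, ← hcardS]
    have h2 : Nat.card ↥(Subgroup.center S : Set S) = Nat.card (Subgroup.center S) := rfl
    rw [h2, mul_comm]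
  have : Fintype {B : Subgroup S // IsMulCommutative ↥B ∧ B.index = p} := Fintype.ofFinite _
  have hsum := Nat.card_congr e
  rw [Nat.card_sigma, Finset.sum_congr rfl (fun B _ => hfib B), Finset.sum_const, Finset.card_univ,
    smul_eq_mul, ← Nat.card_eq_fintype_card, hbase] at hsum
  have hzpos : 0 < Nat.card (Subgroup.center S) := Nat.card_pos
  obtain ⟨q, rfl⟩ : ∃ q, p = q + 1 := ⟨p - 1, by have := hp.pos; omega⟩
  have hq : 0 < q := by
    have := hp.one_lt
    omega
  have h5 : (q + 1) * Nat.card (Subgroup.center S) - Nat.card (Subgroup.center S)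
      = q * Nat.card (Subgroup.center S) := by
    rw [add_mul, one_mul, Nat.add_sub_cancel]
  have h6 : (q + 1) ^ 2 * Nat.card (Subgroup.center S) - Nat.card (Subgroup.center S)
      = (q + 2) * (q * Nat.card (Subgroup.center S)) := by
    have h7 : (q + 1) ^ 2 * Nat.card (Subgroup.center S)
        = (q + 2) * (q * Nat.card (Subgroup.center S)) + Nat.card (Subgroup.center S) := by ring
    rw [h7, Nat.add_sub_cancel]
  rw [h5, h6] at hsum
  exact Nat.eq_of_mul_eq_mul_right (Nat.mul_pos hq hzpos) hsum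

end Sq

/-- the statement on `p`-groups with an abelian subgroup of index `p` -/
theorem aip_main (hS : IsPGroup p S) (hna : ¬ IsMulCommutative S)
    (A : Subgroup S) (hA : IsMulCommutative ↥A) (hAi : A.index = p) :
    (Subgroup.center S).index = p * Nat.card (commutator S) ∧
      ((Nat.card (commutator S) = p ∧
          (IsMulCommutative ↥(⊤ : Subgroup (S ⧸ Subgroup.center S)) ∧
            ∀ a ∈ (⊤ : Subgroup (S ⧸ Subgroup.center S)), a ^ p = 1) ∧
          Nat.card (S ⧸ Subgroup.center S) = p ^ 2 ∧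
          Nat.card {B : Subgroup S // IsMulCommutative ↥B ∧ B.index = p} = p + 1) ∨
        (p ^ 2 ≤ Nat.card (commutator S) ∧
          ∀ B : Subgroup S, IsMulCommutative ↥B → B.index = p → B = A)) := by
  have hp : p.Prime := Fact.out
  have h1 := aip_index_center hS hna A hA hAi
  refine ⟨h1, ?_⟩
  obtain ⟨k, hk⟩ := IsPGroup.iff_card.mp (hS.to_subgroup (commutator S))
  have hk0 : k ≠ 0 := by
    rintro rfl
    rw [pow_zero] at hk
    apply hna
    rw [← commutator_eq_bot_iff]
    exact Subgroup.eq_bot_of_card_eq _ hk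
  by_cases hk1 : k = 1
  · left
    subst hk1
    rw [pow_one] at hk
    rw [hk, ← pow_two] at h1
    have hcard : Nat.card (S ⧸ Subgroup.center S) = p ^ 2 := by
      rw [← Subgroup.index_eq_card]
      exact h1
    refine ⟨hk, ⟨⟨⟨fun a b => Subtype.ext ?_⟩⟩, fun a _ => aip_pow hna h1 a⟩, hcard,
      aip_count hna h1 hS⟩
    exact IsPGroup.commutative_of_card_eq_prime_sq hcard a.1 b.1
  · right
    have hk2 : 2 ≤ k := by omega
    have hge : p ^ 2 ≤ Nat.card (commutator S) := by
      rw [hk]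
      exact Nat.pow_le_pow_right hp.pos hk2
    refine ⟨hge, fun B hB hBi => ?_⟩
    by_contra hne
    have hNA : A.Normal := aip_normal hS A hAi
    obtain ⟨s, hsB, hsA⟩ : ∃ s ∈ B, s ∉ A := by
      by_contra h
      push Not at h
      apply hne
      apply Subgroup.eq_of_le_of_card_ge h
      have h2 := Subgroup.card_mul_index A
      have h3 := Subgroup.card_mul_index B
      rw [hAi] at h2
      rw [hBi, ← h2] at h3
      exact (Nat.eq_of_mul_eq_mul_right hp.pos h3).ge
    have hle : A ⊓ B ≤ Subgroup.center S := by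
      intro x hx
      rw [Subgroup.mem_center_iff]
      intro g
      obtain ⟨a, ha, l, rfl⟩ := aip_decomp A hAi s hsA g
      have h2 : Commute x a := aip_comm A hA x a hx.1 ha
      have h3 : Commute x s := aip_comm B hB x s hx.2 hsB
      exact ((h2.mul_right (h3.pow_right l)).eq).symm
    have h4 := Subgroup.index_dvd_of_le hle
    have h5 := Subgroup.index_inf_le (H := A) (K := B)
    rw [hAi, hBi] at h5
    have h6 : (A ⊓ B).index ≠ 0 := Subgroup.index_ne_zero_of_finite
    have h7 := Nat.le_of_dvd (Nat.pos_of_ne_zero h6) h4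
    rw [h1] at h7
    have h8 : p * Nat.card (commutator S) ≤ p * p := h7.trans h5
    have h9 := Nat.le_of_mul_le_mul_left h8 hp.pos
    have h10 : p ^ 2 ≤ p := hge.trans h9
    have h11 := hp.one_lt
    nlinarith

end Cfsg.Agent.Helper18.AbIndexP
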