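import Mathlib

set_option autoImplicit false
set_option linter.unusedSectionVars false
set_option linter.unusedVariables false

namespace Cfsg.Agent.Helper18.AltPres

section Words

variable {G : Type*} [Group G]

theorem pow_comm_eq_one (x y : G) (n : ℕ) (h : (x * y) ^ n = 1) : (y * x) ^ n = 1 := by
  have e : y * x = y * (x * y) * y⁻¹ := by group
  rw [e, conj_pow, h, mul_one, mul_inv_cancel]

theorem inv_of_sq (a : G) (h : a * a = 1) : a⁻¹ = a := inv_eq_of_mul_eq_one_left h

theorem comm_of_sq (a b : G) (ha : a * a = 1) (hb : b * b = 1) (h : (a * b) ^ 2 = 1) :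
    a * b = b * a := by
  have h1 : (a * b) * (a * b) = 1 := by rw [← pow_two]; exact h
  have h2 : (a * b)⁻¹ = a * b := inv_eq_of_mul_eq_one_left h1
  calc a * b = (a * b)⁻¹ := h2.symm
    _ = b⁻¹ * a⁻¹ := mul_inv_rev _ _
    _ = b * a := by rw [inv_of_sq a ha, inv_of_sq b hb]

theorem braid_of_cube (a b : G) (ha : a * a = 1) (hb : b * b = 1) (h : (a * b) ^ 3 = 1) :
    a * b * a = b * a * b := by
  have h1 : a * b * a * (b * a * b) = 1 := by
    rw [← h, pow_succ, pow_succ, pow_one]
    group
  calc a * b * a = (b * a * b)⁻¹ := eq_inv_of_mul_eq_one_left h1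
    _ = b⁻¹ * a⁻¹ * b⁻¹ := by group
    _ = b * a * b := by rw [inv_of_sq a ha, inv_of_sq b hb]

/-- the relation `(t₀ t₁)³ = 1` -/
theorem pres_r3 (a b c : G) (ha : a * a = 1) (hb : b * b = 1) (hc : c * c = 1)
    (hab : (a * b) ^ 3 = 1) (hbc : (b * c) ^ 3 = 1) (hac : (a * c) ^ 2 = 1) :
    (a * b * (a * c)) ^ 3 = 1 := by
  have h1 := braid_of_cube a b ha hb hab
  have h2 := braid_of_cube b c hb hc hbc
  have h3 := comm_of_sq a c ha hc hac
  have e1 : a * b * (a * c) = b * (c * (a * b) * c⁻¹) * b⁻¹ := by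
    calc a * b * (a * c) = (a * b * a) * c := by group
      _ = (b * a * b) * c := by rw [h1]
      _ = b * (a * (c * c)) * b * c := by rw [hc, mul_one]
      _ = b * ((a * c) * c) * b * c := by group
      _ = b * ((c * a) * c) * b * c := by rw [h3]
      _ = b * c * a * (c * b * c) := by group
      _ = b * c * a * (b * c * b) := by rw [h2]
      _ = b * (c * (a * b) * c) * b := by group
      _ = b * (c * (a * b) * c⁻¹) * b⁻¹ := by rw [inv_of_sq c hc, inv_of_sq b hb]
  rw [e1, conj_pow, conj_pow, hab, mul_one, mul_inv_cancel, mul_one, mul_inv_cancel]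

/-- the relation `(t₀ tⱼ)² = 1` -/
theorem pres_r4 (a b c : G) (ha : a * a = 1) (hb : b * b = 1) (hc : c * c = 1)
    (hac : (a * c) ^ 2 = 1) (hbc : (b * c) ^ 2 = 1) :
    (a * b * (a * c)) ^ 2 = 1 := by
  have hca : c * a = a * c := (comm_of_sq a c ha hc hac).symm
  have hcb : c * b = b * c := (comm_of_sq b c hb hc hbc).symm
  have hx : (a * b * a) * (a * b * a) = 1 := by
    calc (a * b * a) * (a * b * a) = a * b * (a * a) * b * a := by group
      _ = a * (b * b) * a := by rw [ha, mul_one]; group
      _ = 1 := by rw [hb, mul_one, ha]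
  have hcx : c * (a * b * a) = (a * b * a) * c := by
    calc c * (a * b * a) = (c * a) * b * a := by group
      _ = a * (c * b) * a := by rw [hca]; group
      _ = a * b * (c * a) := by rw [hcb]; group
      _ = a * b * a * c := by rw [hca]; group
  calc (a * b * (a * c)) ^ 2 = (a * b * a) * (c * (a * b * a)) * c := by
        rw [pow_two]; group
    _ = ((a * b * a) * (a * b * a)) * (c * c) := by rw [hcx]; group
    _ = 1 := by rw [hx, hc, mul_one]

theorem pres_l5 (a b c : G) (ha : a * a = 1) (hab : a * b = b * a) :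
    a * b * (a * c) = b * c := by
  calc a * b * (a * c) = (a * b) * a * c := by group
    _ = b * (a * a) * c := by rw [hab]; group
    _ = b * c := by rw [ha, mul_one]

theorem pres_l6 (a b : G) (n : ℕ) (hb : b * b = 1) (h : (a * b) ^ n = 1) :
    (a⁻¹ * b) ^ n = 1 := by
  have e : a⁻¹ * b = (b * a)⁻¹ := by
    rw [mul_inv_rev, inv_of_sq b hb]
  rw [e, inv_pow, pow_comm_eq_one a b n h, inv_one]

end Words

section Pres

variable (k : ℕ)

/-- the relations of the presentation of the alternating group -/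
abbrev rels : Set (FreeGroup (Fin k)) :=
  {g : FreeGroup (Fin k) | ∃ i : Fin k, i.val = 0 ∧ g = FreeGroup.of i ^ 3} ∪
   {g | ∃ i : Fin k, 1 ≤ i.val ∧ g = FreeGroup.of i ^ 2} ∪
   {g | ∃ i j : Fin k, j.val = i.val + 1 ∧ g = (FreeGroup.of i * FreeGroup.of j) ^ 3} ∪
   {g | ∃ i j : Fin k, i.val + 1 < j.val ∧ g = (FreeGroup.of i * FreeGroup.of j) ^ 2}

theorem rel1 (i : Fin k) (hi : i.val = 0) :
    (PresentedGroup.of i : PresentedGroup (rels k)) ^ 3 = 1 := by
  have hm : (FreeGroup.of i ^ 3 : FreeGroup (Fin k)) ∈ rels k :=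
    Or.inl (Or.inl (Or.inl ⟨i, hi, rfl⟩))
  have h : PresentedGroup.mk (rels k) (FreeGroup.of i ^ 3) = 1 := PresentedGroup.one_of_mem hm
  rw [map_pow] at h
  exact h

theorem rel2 (i : Fin k) (hi : 1 ≤ i.val) :
    (PresentedGroup.of i : PresentedGroup (rels k)) ^ 2 = 1 := by
  have hm : (FreeGroup.of i ^ 2 : FreeGroup (Fin k)) ∈ rels k :=
    Or.inl (Or.inl (Or.inr ⟨i, hi, rfl⟩))
  have h : PresentedGroup.mk (rels k) (FreeGroup.of i ^ 2) = 1 := PresentedGroup.one_of_mem hm
  rw [map_pow] at h
  exact h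

theorem rel2' (i : Fin k) (hi : 1 ≤ i.val) :
    (PresentedGroup.of i : PresentedGroup (rels k)) * PresentedGroup.of i = 1 := by
  rw [← pow_two]
  exact rel2 k i hi

theorem rel3 (i j : Fin k) (hij : j.val = i.val + 1) :
    ((PresentedGroup.of i : PresentedGroup (rels k)) * PresentedGroup.of j) ^ 3 = 1 := by
  have hm : ((FreeGroup.of i * FreeGroup.of j) ^ 3 : FreeGroup (Fin k)) ∈ rels k :=
    Or.inl (Or.inr ⟨i, j, hij, rfl⟩)
  have h : PresentedGroup.mk (rels k) ((FreeGroup.of i * FreeGroup.of j) ^ 3) = 1 :=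
    PresentedGroup.one_of_mem hm
  rw [map_pow, map_mul] at h
  exact h

theorem rel4 (i j : Fin k) (hij : i.val + 1 < j.val) :
    ((PresentedGroup.of i : PresentedGroup (rels k)) * PresentedGroup.of j) ^ 2 = 1 := by
  have hm : ((FreeGroup.of i * FreeGroup.of j) ^ 2 : FreeGroup (Fin k)) ∈ rels k :=
    Or.inr ⟨i, j, hij, rfl⟩
  have h : PresentedGroup.mk (rels k) ((FreeGroup.of i * FreeGroup.of j) ^ 2) = 1 :=
    PresentedGroup.one_of_mem hm
  rw [map_pow, map_mul] at h
  exact h

theorem M_apply (n : ℕ) (a b : Fin n) : CoxeterMatrix.A n a b =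
    if a = b then 1 else if (b : ℕ) + 1 = a ∨ (a : ℕ) + 1 = b then 3 else 2 := rfl

/-- the inverting map on generators -/
noncomputable def tauGen (i : Fin k) : PresentedGroup (rels k) :=
  if i.val = 0 then (PresentedGroup.of i)⁻¹ else PresentedGroup.of i

theorem tau_rels : ∀ r ∈ rels k, FreeGroup.lift (tauGen k) r = 1 := by
  rintro r (((⟨i, hi, rfl⟩ | ⟨i, hi, rfl⟩) | ⟨i, j, hij, rfl⟩) | ⟨i, j, hij, rfl⟩)
  · rw [map_pow, FreeGroup.lift_apply_of, tauGen, if_pos hi, inv_pow, rel1 k i hi, inv_one]
  · rw [map_pow, FreeGroup.lift_apply_of, tauGen, if_neg (by omega)]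
    exact rel2 k i hi
  · rw [map_pow, map_mul, FreeGroup.lift_apply_of, FreeGroup.lift_apply_of, tauGen, tauGen,
      if_neg (show ¬ j.val = 0 by omega)]
    by_cases hi : i.val = 0
    · rw [if_pos hi]
      exact pres_l6 _ _ 3 (rel2' k j (by omega)) (rel3 k i j hij)
    · rw [if_neg hi]
      exact rel3 k i j hij
  · rw [map_pow, map_mul, FreeGroup.lift_apply_of, FreeGroup.lift_apply_of, tauGen, tauGen,
      if_neg (show ¬ j.val = 0 by omega)]
    by_cases hi : i.val = 0
    · rw [if_pos hi]
      exact pres_l6 _ _ 2 (rel2' k j (by omega)) (rel4 k i j hij)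
    · rw [if_neg hi]
      exact rel4 k i j hij

/-- the inverting endomorphism -/
noncomputable def tau : PresentedGroup (rels k) →* PresentedGroup (rels k) :=
  PresentedGroup.toGroup (tau_rels k)

theorem tau_of (i : Fin k) : tau k (PresentedGroup.of i) = tauGen k i :=
  PresentedGroup.toGroup.of _

theorem tau_tau (x : PresentedGroup (rels k)) : tau k (tau k x) = x := by
  have h : (tau k).comp (tau k) = MonoidHom.id _ := by
    apply PresentedGroup.ext
    intro i
    rw [MonoidHom.comp_apply, tau_of, MonoidHom.id_apply]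
    unfold tauGen
    split_ifs with hi
    · rw [map_inv, tau_of, tauGen, if_pos hi, inv_inv]
    · rw [tau_of, tauGen, if_neg hi]
  exact DFunLike.congr_fun h x

/-- the inverting map as a permutation -/
noncomputable def sig : Equiv.Perm (PresentedGroup (rels k)) :=
  ⟨tau k, tau k, tau_tau k, tau_tau k⟩

/-- left multiplication -/
noncomputable def lm : PresentedGroup (rels k) →* Equiv.Perm (PresentedGroup (rels k)) :=
  MulAction.toPermHom _ _

theorem lm_apply (g x : PresentedGroup (rels k)) : lm k g x = g * x := rfl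

theorem sig_apply (x : PresentedGroup (rels k)) : sig k x = tau k x := rfl

theorem sig_sig : sig k * sig k = 1 := by
  ext x
  rw [Equiv.Perm.mul_apply, sig_apply, sig_apply, tau_tau]
  rfl

theorem sig_lm (g : PresentedGroup (rels k)) : sig k * lm k g = lm k (tau k g) * sig k := by
  ext x
  rw [Equiv.Perm.mul_apply, Equiv.Perm.mul_apply, sig_apply, sig_apply, lm_apply, lm_apply,
    map_mul]

theorem c0j (g : PresentedGroup (rels k)) : sig k * (sig k * lm k g) = lm k g := by
  rw [← mul_assoc, sig_sig, one_mul]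

theorem ci0 (g : PresentedGroup (rels k)) : sig k * lm k g * sig k = lm k (tau k g) := by
  rw [sig_lm, mul_assoc, sig_sig, mul_one]

theorem cij (g h : PresentedGroup (rels k)) :
    sig k * lm k g * (sig k * lm k h) = lm k (tau k g * h) := by
  rw [← mul_assoc, ci0, map_mul]

theorem pq1 (j : Fin k) :
    (PresentedGroup.of j : PresentedGroup (rels k)) ^ (CoxeterMatrix.A (k + 1) 0 j.succ) = 1 := by
  rw [M_apply, if_neg (Fin.succ_ne_zero j).symm]
  by_cases hj : j.val = 0
  · rw [if_pos (Or.inr (by rw [Fin.val_succ, Fin.val_zero, hj]))]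
    exact rel1 k j hj
  · rw [if_neg (by rw [Fin.val_succ, Fin.val_zero]; omega)]
    exact rel2 k j (by omega)

theorem pq2 (i : Fin k) :
    (tauGen k i) ^ (CoxeterMatrix.A (k + 1) i.succ 0) = 1 := by
  rw [M_apply, if_neg (Fin.succ_ne_zero i)]
  by_cases hi : i.val = 0
  · rw [if_pos (Or.inl (by rw [Fin.val_succ, Fin.val_zero, hi])), tauGen, if_pos hi, inv_pow,
      rel1 k i hi, inv_one]
  · rw [if_neg (by rw [Fin.val_succ, Fin.val_zero]; omega), tauGen, if_neg hi]
    exact rel2 k i (by omega)

theorem pq3 (i j : Fin k) :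
    (tauGen k i * PresentedGroup.of j) ^ (CoxeterMatrix.A (k + 1) i.succ j.succ) = 1 := by
  rw [M_apply]
  by_cases hij : i = j
  · subst hij
    rw [if_pos rfl, pow_one]
    unfold tauGen
    split_ifs with hi
    · exact inv_mul_cancel _
    · exact rel2' k i (by omega)
  · rw [if_neg (fun h => hij (Fin.succ_injective _ h))]
    have hv : i.val ≠ j.val := fun h => hij (Fin.ext h)
    by_cases h3 : (j.succ : ℕ) + 1 = i.succ ∨ (i.succ : ℕ) + 1 = j.succ
    · rw [if_pos h3]
      simp only [Fin.val_succ] at h3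
      rcases h3 with h3 | h3
      · have hi : ¬ i.val = 0 := by omega
        rw [tauGen, if_neg hi]
        exact pow_comm_eq_one _ _ 3 (rel3 k j i (by omega))
      · by_cases hi : i.val = 0
        · rw [tauGen, if_pos hi]
          exact pres_l6 _ _ 3 (rel2' k j (by omega)) (rel3 k i j (by omega))
        · rw [tauGen, if_neg hi]
          exact rel3 k i j (by omega)
    · rw [if_neg h3]
      simp only [Fin.val_succ, not_or] at h3
      rcases Nat.lt_or_gt_of_ne hv with hlt | hgt
      · by_cases hi : i.val = 0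
        · rw [tauGen, if_pos hi]
          exact pres_l6 _ _ 2 (rel2' k j (by omega)) (rel4 k i j (by omega))
        · rw [tauGen, if_neg hi]
          exact rel4 k i j (by omega)
      · have hi : ¬ i.val = 0 := by omega
        rw [tauGen, if_neg hi]
        exact pow_comm_eq_one _ _ 2 (rel4 k j i (by omega))

/-- images of the Coxeter generators in the holomorph -/
noncomputable def holGen : Fin (k + 1) → Equiv.Perm (PresentedGroup (rels k)) :=
  Fin.cases (sig k) (fun i => sig k * lm k (PresentedGroup.of i))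

theorem holGen_zero : holGen k 0 = sig k := rfl

theorem holGen_succ (i : Fin k) : holGen k i.succ = sig k * lm k (PresentedGroup.of i) := rfl

theorem holGen_liftable : (CoxeterMatrix.A (k + 1)).IsLiftable (holGen k) := by
  intro a b
  induction a using Fin.cases with
  | zero =>
    induction b using Fin.cases with
    | zero =>
      rw [holGen_zero, M_apply, if_pos rfl, pow_one, sig_sig]
    | succ j =>
      rw [holGen_zero, holGen_succ, c0j, ← map_pow, pq1, map_one]
  | succ i =>
    induction b using Fin.cases with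
    | zero =>
      rw [holGen_zero, holGen_succ, ci0, ← map_pow, tau_of, pq2, map_one]
    | succ j =>
      rw [holGen_succ, holGen_succ, cij, ← map_pow, tau_of, pq3, map_one]

end Pres

section Cox

variable (k : ℕ) {W : Type*} [Group W] (cs : CoxeterSystem (CoxeterMatrix.A (k + 1)) W)

theorem cox3 (a b : Fin (k + 1)) (h : (a : ℕ) + 1 = b) :
    (cs.simple a * cs.simple b) ^ 3 = 1 := by
  have h1 := cs.simple_mul_simple_pow a b
  rw [M_apply, if_neg (by intro e; rw [e] at h; omega), if_pos (Or.inr h)] at h1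
  exact h1

theorem cox2 (a b : Fin (k + 1)) (h : (a : ℕ) + 1 < b) :
    (cs.simple a * cs.simple b) ^ 2 = 1 := by
  have h1 := cs.simple_mul_simple_pow a b
  rw [M_apply, if_neg (by intro e; rw [e] at h; omega), if_neg (by omega)] at h1
  exact h1

theorem pi_rels : ∀ r ∈ rels k,
    FreeGroup.lift (fun i : Fin k => cs.simple 0 * cs.simple i.succ) r = 1 := by
  have sq : ∀ a, cs.simple a * cs.simple a = 1 := fun a => cs.simple_mul_simple_self a
  rintro r (((⟨i, hi, rfl⟩ | ⟨i, hi, rfl⟩) | ⟨i, j, hij, rfl⟩) | ⟨i, j, hij, rfl⟩)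
  · rw [map_pow, FreeGroup.lift_apply_of]
    exact cox3 k cs 0 i.succ (by rw [Fin.val_succ, Fin.val_zero, hi])
  · rw [map_pow, FreeGroup.lift_apply_of]
    exact cox2 k cs 0 i.succ (by rw [Fin.val_succ, Fin.val_zero]; omega)
  · rw [map_pow, map_mul, FreeGroup.lift_apply_of, FreeGroup.lift_apply_of]
    by_cases hi : i.val = 0
    · exact pres_r3 _ _ _ (sq _) (sq _) (sq _)
        (cox3 k cs 0 i.succ (by rw [Fin.val_succ, Fin.val_zero, hi]))
        (cox3 k cs i.succ j.succ (by rw [Fin.val_succ, Fin.val_succ, hij]))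
        (cox2 k cs 0 j.succ (by rw [Fin.val_succ, Fin.val_zero]; omega))
    · have hc := comm_of_sq _ _ (sq 0) (sq i.succ)
        (cox2 k cs 0 i.succ (by rw [Fin.val_succ, Fin.val_zero]; omega))
      rw [pres_l5 _ _ _ (sq 0) hc]
      exact cox3 k cs i.succ j.succ (by rw [Fin.val_succ, Fin.val_succ, hij])
  · rw [map_pow, map_mul, FreeGroup.lift_apply_of, FreeGroup.lift_apply_of]
    by_cases hi : i.val = 0
    · exact pres_r4 _ _ _ (sq _) (sq _) (sq _)
        (cox2 k cs 0 j.succ (by rw [Fin.val_succ, Fin.val_zero]; omega))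
        (cox2 k cs i.succ j.succ (by rw [Fin.val_succ, Fin.val_succ]; omega))
    · have hc := comm_of_sq _ _ (sq 0) (sq i.succ)
        (cox2 k cs 0 i.succ (by rw [Fin.val_succ, Fin.val_zero]; omega))
      rw [pres_l5 _ _ _ (sq 0) hc]
      exact cox2 k cs i.succ j.succ (by rw [Fin.val_succ, Fin.val_succ]; omega)

/-- the map from the presented group to the Coxeter group -/
noncomputable def piHom : PresentedGroup (rels k) →* W :=
  PresentedGroup.toGroup (pi_rels k cs)

theorem piHom_of (i : Fin k) :
    piHom k cs (PresentedGroup.of i) = cs.simple 0 * cs.simple i.succ :=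
  PresentedGroup.toGroup.of _

theorem piHom_injective : Function.Injective (piHom k cs) := by
  have h : (cs.lift ⟨holGen k, holGen_liftable k⟩).comp (piHom k cs) = lm k := by
    apply PresentedGroup.ext
    intro i
    rw [MonoidHom.comp_apply, piHom_of, map_mul, CoxeterSystem.lift_apply_simple,
      CoxeterSystem.lift_apply_simple, holGen_zero, holGen_succ, c0j]
  intro x y hxy
  have h1 : lm k x = lm k y := by
    rw [← h, MonoidHom.comp_apply, MonoidHom.comp_apply, hxy]
  have h2 : lm k x 1 = lm k y 1 := by rw [h1]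
  rw [lm_apply, lm_apply, mul_one, mul_one] at h2
  exact h2

theorem piHom_range (sgn : W →* ℤˣ) (hs : ∀ a, sgn (cs.simple a) = -1) :
    (piHom k cs).range = sgn.ker := by
  have sq : ∀ a, cs.simple a * cs.simple a = 1 := fun a => cs.simple_mul_simple_self a
  have hle : (piHom k cs).range ≤ sgn.ker := by
    rintro _ ⟨x, rfl⟩
    rw [MonoidHom.mem_ker]
    have h : sgn.comp (piHom k cs) = 1 := by
      apply PresentedGroup.ext
      intro i
      rw [MonoidHom.comp_apply, piHom_of, map_mul, hs, hs]
      rfl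
    have h1 := DFunLike.congr_fun h x
    exact h1
  apply le_antisymm hle
  have hmem : ∀ a, cs.simple 0 * cs.simple a ∈ (piHom k cs).range := by
    intro a
    induction a using Fin.cases with
    | zero =>
      rw [sq]
      exact Subgroup.one_mem _
    | succ i => exact ⟨PresentedGroup.of i, piHom_of k cs i⟩
  have key : ∀ w : W, w ∈ (piHom k cs).range ∨ cs.simple 0 * w ∈ (piHom k cs).range := by
    intro w
    induction w using cs.simple_induction_left with
    | one => exact Or.inl (Subgroup.one_mem _)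
    | mul_simple_left w a ih =>
      rcases ih with ih | ih
      · right
        rw [← mul_assoc]
        exact Subgroup.mul_mem _ (hmem a) ih
      · left
        have e : cs.simple a * w = (cs.simple 0 * cs.simple a)⁻¹ * (cs.simple 0 * w) := by
          rw [mul_inv_rev, inv_of_sq _ (sq 0), inv_of_sq _ (sq a), mul_assoc,
            ← mul_assoc (cs.simple 0), sq, one_mul]
        rw [e]
        exact Subgroup.mul_mem _ (Subgroup.inv_mem _ (hmem a)) ih
  intro w hw
  rcases key w with h | h
  · exact h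
  · exfalso
    have h1 := hle h
    rw [MonoidHom.mem_ker, map_mul, hs, MonoidHom.mem_ker.mp hw, mul_one] at h1
    exact absurd h1 (by decide)

theorem alt_pres (sgn : W →* ℤˣ) (hs : ∀ a, sgn (cs.simple a) = -1) :
    Nonempty (PresentedGroup (rels k) ≃* sgn.ker) := by
  have hr := piHom_range k cs sgn hs
  have hmem : ∀ x, piHom k cs x ∈ sgn.ker := by
    intro x
    rw [← hr]
    exact ⟨x, rfl⟩
  refine ⟨MulEquiv.ofBijective ((piHom k cs).codRestrict sgn.ker hmem) ⟨?_, ?_⟩⟩
  · intro x y hxy
    apply piHom_injective k cs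
    exact congrArg Subtype.val hxy
  · rintro ⟨w, hw⟩
    rw [← hr] at hw
    obtain ⟨x, rfl⟩ := hw
    exact ⟨x, rfl⟩

end Cox

end Cfsg.Agent.Helper18.AltPres
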