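import Mathlib

set_option autoImplicit false
set_option linter.unusedSectionVars false
set_option linter.unusedVariables false

namespace Cfsg.Agent.Helper18.AutAlt

open Equiv Equiv.Perm

section C3

variable {α : Type*} [DecidableEq α]

/-- the 3-cycle `a → b → c → a` -/
def c3 (a b c : α) : Perm α := swap a b * swap b c

theorem c3_apply (a b c x : α) (hab : a ≠ b) (hac : a ≠ c) (hbc : b ≠ c) :
    c3 a b c x = if x = a then b else if x = b then c else if x = c then a else x := by
  unfold c3
  rw [Perm.mul_apply]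
  by_cases h1 : x = a
  · subst h1
    rw [if_pos rfl, swap_apply_of_ne_of_ne hab hac, swap_apply_left]
  · by_cases h2 : x = b
    · subst h2
      rw [if_neg h1, if_pos rfl, swap_apply_left, swap_apply_of_ne_of_ne hac.symm hbc.symm]
    · by_cases h3 : x = c
      · subst h3
        rw [if_neg h1, if_neg h2, if_pos rfl, swap_apply_right, swap_apply_right]
      · rw [if_neg h1, if_neg h2, if_neg h3, swap_apply_of_ne_of_ne h2 h3,
          swap_apply_of_ne_of_ne h1 h2]

theorem c3_a (a b c : α) (hab : a ≠ b) (hac : a ≠ c) (hbc : b ≠ c) : c3 a b c a = b := by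
  rw [c3_apply a b c a hab hac hbc, if_pos rfl]

theorem c3_b (a b c : α) (hab : a ≠ b) (hac : a ≠ c) (hbc : b ≠ c) : c3 a b c b = c := by
  rw [c3_apply a b c b hab hac hbc, if_neg hab.symm, if_pos rfl]

theorem c3_c (a b c : α) (hab : a ≠ b) (hac : a ≠ c) (hbc : b ≠ c) : c3 a b c c = a := by
  rw [c3_apply a b c c hab hac hbc, if_neg hac.symm, if_neg hbc.symm, if_pos rfl]

theorem c3_other (a b c x : α) (hab : a ≠ b) (hac : a ≠ c) (hbc : b ≠ c) (h1 : x ≠ a)
    (h2 : x ≠ b) (h3 : x ≠ c) : c3 a b c x = x := by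
  rw [c3_apply a b c x hab hac hbc, if_neg h1, if_neg h2, if_neg h3]

theorem c3_moved (a b c x : α) (hab : a ≠ b) (hac : a ≠ c) (hbc : b ≠ c)
    (hx : c3 a b c x ≠ x) : x = a ∨ x = b ∨ x = c := by
  by_contra hno
  push Not at hno
  exact hx (c3_other a b c x hab hac hbc hno.1 hno.2.1 hno.2.2)

theorem c3_conj (σ : Perm α) (a b c : α) : σ * c3 a b c * σ⁻¹ = c3 (σ a) (σ b) (σ c) := by
  unfold c3
  rw [swap_apply_apply, swap_apply_apply]
  group

variable [Fintype α]

theorem c3_isThreeCycle (a b c : α) (hab : a ≠ b) (hac : a ≠ c) (hbc : b ≠ c) :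
    IsThreeCycle (c3 a b c) := by
  unfold c3
  rw [swap_comm a b]
  exact isThreeCycle_swap_mul_swap_same hab.symm hbc hac

/-- a 3-cycle is `c3 a (g a) (g (g a))` for every moved point `a` -/
theorem eq_c3 (g : Perm α) (hg : IsThreeCycle g) (a : α) (ha : g a ≠ a) :
    g = c3 a (g a) (g (g a)) ∧ a ≠ g a ∧ a ≠ g (g a) ∧ g a ≠ g (g a) ∧ g (g (g a)) = a := by
  have hmem : a ∈ g.support := Perm.mem_support.mpr ha
  have h1 := hg.eq_swap_mul_swap_iff_mem_support.mpr hmem
  have h2 := hg.nodup_iff_mem_support.mpr hmem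
  have h3 : g (g (g a)) = a := by
    have h4 : g ^ 3 = 1 := by
      rw [← hg.orderOf]
      exact pow_orderOf_eq_one g
    have h5 : (g ^ 3) a = a := by rw [h4]; rfl
    simpa [pow_succ] using h5
  refine ⟨h1, ?_, ?_, ?_, h3⟩
  · intro h; exact ha h.symm
  · intro h
    simp only [List.nodup_cons, List.mem_cons, List.not_mem_nil, not_or] at h2
    exact h2.1.2.1 h
  · intro h
    exact ha (g.injective h.symm)

/-- two 3-cycles whose product has order two overlap in an oriented edge -/
theorem c3_of_order_two (x y : Perm α) (hx : IsThreeCycle x) (hy : IsThreeCycle y)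
    (h2 : orderOf (x * y) = 2) :
    ∃ j i : α, x j ≠ j ∧ x i = i ∧ y = c3 j (x j) i := by
  have hsq : (x * y) ^ 2 = 1 := by
    rw [← h2]
    exact pow_orderOf_eq_one _
  have hxy : ∀ v, x (y (x (y v))) = v := by
    intro v
    have h5 : ((x * y) ^ 2) v = v := by rw [hsq]; rfl
    simpa [pow_succ] using h5
  have hy3 : ∀ v, y (y (y v)) = v := by
    intro v
    have h4 : y ^ 3 = 1 := by
      rw [← hy.orderOf]
      exact pow_orderOf_eq_one y
    have h5 : (y ^ 3) v = v := by rw [h4]; rfl
    simpa [pow_succ] using h5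
  -- some point moved by `y` is fixed by `x`
  have hex : ∃ i, y i ≠ i ∧ x i = i := by
    by_contra hno
    push Not at hno
    have hsub : y.support ⊆ x.support := by
      intro v hv
      rw [Perm.mem_support] at hv ⊢
      exact hno v hv
    have hsupp : (x * y).support ⊆ x.support := by
      intro v hv
      have h6 := Perm.support_mul_le x y hv
      rcases Finset.mem_union.mp h6 with h7 | h7
      · exact h7
      · exact hsub h7
    have hcard : (x * y).support.card ≤ 3 := by
      rw [← hx.card_support]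
      exact Finset.card_le_card hsupp
    obtain ⟨m, hm⟩ := cycleType_prime_order (σ := x * y) (by rw [h2]; exact Nat.prime_two)
    rw [h2] at hm
    have hsum := Perm.sum_cycleType (x * y)
    rw [hm, Multiset.sum_replicate, smul_eq_mul] at hsum
    have hm0 : m = 0 := by omega
    have hsign : Perm.sign (x * y) = -1 := by
      rw [Perm.sign_of_cycleType, hm, hm0]
      rfl
    have hsign' : Perm.sign (x * y) = 1 := by
      rw [map_mul, hx.sign, hy.sign, one_mul]
    rw [hsign'] at hsign
    exact absurd hsign (by decide)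
  obtain ⟨i, hyi, hxi⟩ := hex
  have hj : y (y i) ≠ y i := fun h => hyi (y.injective h)
  have hxj : x (y i) = y (y i) := by
    have h7 := hxy (y (y i))
    rw [hy3, hxi] at h7
    exact h7
  refine ⟨y i, i, ?_, hxi, ?_⟩
  · rw [hxj]
    exact hj
  · have h8 := (eq_c3 y hy (y i) hj).1
    rw [hy3] at h8
    rw [hxj]
    exact h8

theorem c3_ne (x : Perm α) (j i : α) (hj : x j ≠ j) (hi : x i = i) :
    j ≠ x j ∧ j ≠ i ∧ x j ≠ i := by
  refine ⟨fun h => hj h.symm, ?_, ?_⟩
  · rintro rfl
    exact hj hi
  · intro h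
    have h1 : x (x j) = x j := by rw [h, hi]
    exact hj (x.injective h1)

end C3

section Identities

variable {α : Type*} [DecidableEq α]

theorem c3_inv_mul (o e p : α) (hoe : o ≠ e) (hop : o ≠ p) (hep : e ≠ p) :
    c3 o p e * c3 o e p = 1 := by
  ext x
  rw [Perm.mul_apply, Perm.one_apply, c3_apply o e p x hoe hop hep]
  by_cases h1 : x = o
  · rw [if_pos h1, c3_c o p e hop hoe hep.symm, h1]
  · by_cases h2 : x = e
    · rw [if_neg h1, if_pos h2, c3_b o p e hop hoe hep.symm, h2]
    · by_cases h3 : x = p
      · rw [if_neg h1, if_neg h2, if_pos h3, c3_a o p e hop hoe hep.symm, h3]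
      · rw [if_neg h1, if_neg h2, if_neg h3, c3_other o p e x hop hoe hep.symm h1 h3 h2]

theorem c3_I1 (o e p : α) (hoe : o ≠ e) (hop : o ≠ p) (hep : e ≠ p) :
    c3 o p e = (c3 o e p)⁻¹ :=
  eq_inv_of_mul_eq_one_left (c3_inv_mul o e p hoe hop hep)

theorem c3_I2' (o e p q : α) (hoe : o ≠ e) (hop : o ≠ p) (hoq : o ≠ q) (hep : e ≠ p)
    (heq : e ≠ q) (hpq : p ≠ q) : c3 o p q * c3 o e p = c3 o e q := by
  ext x
  rw [Perm.mul_apply, c3_apply o e p x hoe hop hep, c3_apply o e q x hoe hoq heq]
  by_cases h1 : x = o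
  · rw [if_pos h1, if_pos h1, c3_other o p q e hop hoq hpq hoe.symm hep heq]
  · by_cases h2 : x = e
    · rw [if_neg h1, if_pos h2, if_neg h1, if_pos h2, c3_b o p q hop hoq hpq]
    · by_cases h3 : x = p
      · rw [if_neg h1, if_neg h2, if_pos h3, if_neg h1, if_neg h2,
          if_neg (by rw [h3]; exact hpq), c3_a o p q hop hoq hpq, h3]
      · by_cases h4 : x = q
        · rw [if_neg h1, if_neg h2, if_neg h3, if_neg h1, if_neg h2, if_pos h4, h4,
            c3_c o p q hop hoq hpq]
        · rw [if_neg h1, if_neg h2, if_neg h3, if_neg h1, if_neg h2, if_neg h4,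
            c3_other o p q x hop hoq hpq h1 h3 h4]

theorem c3_I2 (o e p q : α) (hoe : o ≠ e) (hop : o ≠ p) (hoq : o ≠ q) (hep : e ≠ p)
    (heq : e ≠ q) (hpq : p ≠ q) : c3 o p q = c3 o e q * (c3 o e p)⁻¹ := by
  rw [← c3_I2' o e p q hoe hop hoq hep heq hpq, mul_inv_cancel_right]

theorem c3_I3' (o e p q : α) (hoe : o ≠ e) (hop : o ≠ p) (hoq : o ≠ q) (hep : e ≠ p)
    (heq : e ≠ q) (hpq : p ≠ q) : c3 o e q * c3 e p q = c3 o e p := by
  ext x
  rw [Perm.mul_apply, c3_apply e p q x hep heq hpq, c3_apply o e p x hoe hop hep]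
  by_cases h1 : x = o
  · rw [if_neg (by rw [h1]; exact hoe), if_neg (by rw [h1]; exact hop),
      if_neg (by rw [h1]; exact hoq), if_pos h1, h1, c3_a o e q hoe hoq heq]
  · by_cases h2 : x = e
    · rw [if_pos h2, if_neg h1, if_pos h2, c3_other o e q p hoe hoq heq hop.symm hep.symm hpq]
    · by_cases h3 : x = p
      · rw [if_neg h2, if_pos h3, if_neg h1, if_neg h2, if_pos h3, c3_c o e q hoe hoq heq]
      · by_cases h4 : x = q
        · rw [if_neg h2, if_neg h3, if_pos h4, if_neg h1, if_neg h2, if_neg h3,
            c3_b o e q hoe hoq heq, h4]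
        · rw [if_neg h2, if_neg h3, if_neg h4, if_neg h1, if_neg h2, if_neg h3,
            c3_other o e q x hoe hoq heq h1 h2 h4]

theorem c3_I3 (o e p q : α) (hoe : o ≠ e) (hop : o ≠ p) (hoq : o ≠ q) (hep : e ≠ p)
    (heq : e ≠ q) (hpq : p ≠ q) : c3 e p q = (c3 o e q)⁻¹ * c3 o e p := by
  rw [← c3_I3' o e p q hoe hop hoq hep heq hpq, inv_mul_cancel_left]

theorem c3_I4 (o a b c : α) (hoa : o ≠ a) (hob : o ≠ b) (hoc : o ≠ c) (hab : a ≠ b)
    (hac : a ≠ c) (hbc : b ≠ c) : c3 a b c = c3 o a b * c3 o b c := by
  ext x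
  rw [Perm.mul_apply, c3_apply o b c x hob hoc hbc, c3_apply a b c x hab hac hbc]
  by_cases h1 : x = o
  · rw [if_neg (by rw [h1]; exact hoa), if_neg (by rw [h1]; exact hob),
      if_neg (by rw [h1]; exact hoc), if_pos h1, c3_c o a b hoa hob hab, h1]
  · by_cases h2 : x = a
    · rw [if_pos h2, if_neg h1, if_neg (by rw [h2]; exact hab), if_neg (by rw [h2]; exact hac),
        h2, c3_b o a b hoa hob hab]
    · by_cases h3 : x = b
      · rw [if_neg h2, if_pos h3, if_neg h1, if_pos h3,
          c3_other o a b c hoa hob hab hoc.symm hac.symm hbc.symm]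
      · by_cases h4 : x = c
        · rw [if_neg h2, if_neg h3, if_pos h4, if_neg h1, if_neg h3, if_pos h4,
            c3_a o a b hoa hob hab]
        · rw [if_neg h2, if_neg h3, if_neg h4, if_neg h1, if_neg h3, if_neg h4,
            c3_other o a b x hoa hob hab h1 h2 h3]

/-- the product of `(o e k)` and `(o e l)` has order two -/
theorem c3_prod_order (o e k l : α) (hoe : o ≠ e) (hok : o ≠ k) (hol : o ≠ l) (hek : e ≠ k)
    (hel : e ≠ l) (hkl : k ≠ l) : orderOf (c3 o e k * c3 o e l) = 2 := by
  have : Fact (Nat.Prime 2) := ⟨Nat.prime_two⟩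
  have hval : ∀ x, (c3 o e k * c3 o e l) x =
      if x = o then k else if x = k then o else if x = e then l else if x = l then e else x := by
    intro x
    rw [Perm.mul_apply, c3_apply o e l x hoe hol hel]
    by_cases h1 : x = o
    · rw [if_pos h1, if_pos h1, c3_b o e k hoe hok hek]
    · by_cases h2 : x = e
      · rw [if_neg h1, if_pos h2, if_neg h1, if_neg (by rw [h2]; exact hek), if_pos h2,
          c3_other o e k l hoe hok hek hol.symm hel.symm hkl.symm]
      · by_cases h3 : x = l
        · rw [if_neg h1, if_neg h2, if_pos h3, if_neg h1, if_neg (by rw [h3]; exact hkl.symm),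
            if_neg h2, if_pos h3, c3_a o e k hoe hok hek]
        · by_cases h4 : x = k
          · rw [if_neg h1, if_neg h2, if_neg h3, if_neg h1, if_pos h4, h4,
              c3_c o e k hoe hok hek]
          · rw [if_neg h1, if_neg h2, if_neg h3, if_neg h1, if_neg h4, if_neg h2, if_neg h3,
              c3_other o e k x hoe hok hek h1 h2 h4]
  apply orderOf_eq_prime
  · ext x
    rw [pow_two, Perm.mul_apply, Perm.one_apply, hval x]
    by_cases h1 : x = o
    · rw [if_pos h1, hval k, if_neg hok.symm, if_pos rfl, h1]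
    · by_cases h2 : x = k
      · rw [if_neg h1, if_pos h2, hval o, if_pos rfl, h2]
      · by_cases h3 : x = e
        · rw [if_neg h1, if_neg h2, if_pos h3, hval l, if_neg hol.symm, if_neg hkl.symm,
            if_neg hel.symm, if_pos rfl, h3]
        · by_cases h4 : x = l
          · rw [if_neg h1, if_neg h2, if_neg h3, if_pos h4, hval e, if_neg hoe.symm, if_neg hek,
              if_pos rfl, h4]
          · rw [if_neg h1, if_neg h2, if_neg h3, if_neg h4, hval x, if_neg h1, if_neg h2,
              if_neg h3, if_neg h4]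
  · intro h
    have h5 := hval o
    rw [h, Perm.one_apply, if_pos rfl] at h5
    exact hok h5

end Identities

section Gen

variable {α : Type*} [DecidableEq α] [Fintype α]

/-- the 3-cycles `(o e k)` generate the alternating group -/
theorem closure_c3 (o e : α) (hoe : o ≠ e) :
    alternatingGroup α ≤
      Subgroup.closure {g : Perm α | ∃ k, k ≠ o ∧ k ≠ e ∧ g = c3 o e k} := by
  rw [← closure_three_cycles_eq_alternating, Subgroup.closure_le]
  intro g hg
  have hg3 : IsThreeCycle g := hg
  have hx : ∀ k, k ≠ o → k ≠ e → c3 o e k ∈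
      Subgroup.closure {g : Perm α | ∃ k, k ≠ o ∧ k ≠ e ∧ g = c3 o e k} :=
    fun k h1 h2 => Subgroup.subset_closure ⟨k, h1, h2, rfl⟩
  have hz : ∀ p q, p ≠ o → p ≠ e → q ≠ o → q ≠ e → p ≠ q → c3 o p q ∈
      Subgroup.closure {g : Perm α | ∃ k, k ≠ o ∧ k ≠ e ∧ g = c3 o e k} := by
    intro p q hp1 hp2 hq1 hq2 hpq
    rw [c3_I2 o e p q hoe hp1.symm hq1.symm hp2.symm hq2.symm hpq]
    exact Subgroup.mul_mem _ (hx q hq1 hq2) (Subgroup.inv_mem _ (hx p hp1 hp2))
  show g ∈ Subgroup.closure {g : Perm α | ∃ k, k ≠ o ∧ k ≠ e ∧ g = c3 o e k}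
  by_cases h0 : g o = o
  · by_cases h1 : g e = e
    · obtain ⟨a, ha⟩ : ∃ a, g a ≠ a := by
        by_contra hno
        push Not at hno
        exact hg3.ne_one (Perm.ext hno)
      obtain ⟨h2, h3, h4, h5, h6⟩ := eq_c3 g hg3 a ha
      have hgb : g (g a) ≠ g a := fun h => ha (g.injective h)
      have hgc : g (g (g a)) ≠ g (g a) := fun h => hgb (g.injective h)
      have ne1 : ∀ v, g v ≠ v → v ≠ o ∧ v ≠ e := by
        intro v hv
        constructor
        · rintro rfl
          exact hv h0
        · rintro rfl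
          exact hv h1
      obtain ⟨a1, a2⟩ := ne1 a ha
      obtain ⟨b1, b2⟩ := ne1 (g a) hgb
      obtain ⟨c1, c2⟩ := ne1 (g (g a)) hgc
      rw [h2, c3_I4 o a (g a) (g (g a)) a1.symm b1.symm c1.symm h3 h4 h5]
      exact Subgroup.mul_mem _ (hz a (g a) a1 a2 b1 b2 h3) (hz (g a) (g (g a)) b1 b2 c1 c2 h5)
    · obtain ⟨h2, h3, h4, h5, h6⟩ := eq_c3 g hg3 e h1
      have hgb : g (g e) ≠ g e := fun h => h1 (g.injective h)
      have hgc : g (g (g e)) ≠ g (g e) := fun h => hgb (g.injective h)
      have p1 : g e ≠ o := by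
        intro h
        rw [h] at hgb
        exact hgb h0
      have q1 : g (g e) ≠ o := by
        intro h
        rw [h] at hgc
        exact hgc h0
      rw [h2, c3_I3 o e (g e) (g (g e)) hoe p1.symm q1.symm h3 h4 h5]
      exact Subgroup.mul_mem _ (Subgroup.inv_mem _ (hx _ q1 h4.symm)) (hx _ p1 h3.symm)
  · obtain ⟨h2, h3, h4, h5, h6⟩ := eq_c3 g hg3 o h0
    by_cases hp : g o = e
    · rw [h2, hp]
      rw [hp] at h4 h5
      exact hx _ h4.symm h5.symm
    · by_cases hq : g (g o) = e
      · rw [h2, hq, c3_I1 o e (g o) hoe h3 (Ne.symm hp)]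
        exact Subgroup.inv_mem _ (hx _ h3.symm hp)
      · rw [h2]
        exact hz _ _ h3.symm hp h4.symm hq h5

end Gen

section Config

variable {α : Type*} [DecidableEq α] [Fintype α]

theorem config {K : Type*} (y : K → Perm α) (hy : ∀ k, IsThreeCycle (y k))
    (hR : ∀ k l, k ≠ l → orderOf (y k * y l) = 2) (k₀ k₁ : K) (h01 : k₀ ≠ k₁) :
    ∃ a b : α, a ≠ b ∧ (∀ k, y k b ≠ a ∧ y k b ≠ b ∧ y k = c3 a b (y k b)) ∧
      ∀ k l, k ≠ l → y k b ≠ y l b := by
  obtain ⟨a, d, hj, hi, h1⟩ := c3_of_order_two (y k₀) (y k₁) (hy k₀) (hy k₁) (hR k₀ k₁ h01)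
  obtain ⟨hx, hab, hac, hbc, hca⟩ := eq_c3 (y k₀) (hy k₀) a hj
  obtain ⟨b, hb⟩ : ∃ b, b = y k₀ a := ⟨_, rfl⟩
  obtain ⟨c, hc⟩ : ∃ c, c = y k₀ b := ⟨_, rfl⟩
  rw [← hb] at hx hab hac hbc hca h1
  rw [← hc] at hx hac hbc hca
  have hxa : y k₀ a = b := hb.symm
  have hxb : y k₀ b = c := hc.symm
  have hda : d ≠ a := by
    rintro rfl
    exact hj hi
  have hdb : d ≠ b := by
    rintro rfl
    rw [hxb] at hi
    exact hbc hi.symm
  have hdc : d ≠ c := by
    rintro rfl
    rw [hca] at hi
    exact hac hi
  have hmain : ∀ k, y k b ≠ a ∧ y k b ≠ b ∧ y k = c3 a b (y k b) := by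
    intro k
    by_cases hk0 : k = k₀
    · rw [hk0, hxb]
      exact ⟨hac.symm, hbc.symm, hx⟩
    · obtain ⟨p, g, hp, hg, hk⟩ :=
        c3_of_order_two (y k₀) (y k) (hy k₀) (hy k) (hR k₀ k (Ne.symm hk0))
      have hga : g ≠ a := by
        rintro rfl
        exact hj hg
      have hgb : g ≠ b := by
        rintro rfl
        rw [hxb] at hg
        exact hbc hg.symm
      have hgc : g ≠ c := by
        rintro rfl
        rw [hca] at hg
        exact hac hg
      have hp3 : p = a ∨ p = b ∨ p = c := by
        apply c3_moved a b c p hab hac hbc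
        rw [← hx]
        exact hp
      rcases hp3 with rfl | rfl | rfl
      · rw [hxa] at hk
        have hkb : y k b = g := by
          rw [hk]
          exact c3_b p b g hab hga.symm hgb.symm
        rw [hkb]
        exact ⟨hga, hgb, hk⟩
      · exfalso
        rw [hxb] at hk
        -- y k = c3 p c g where p = b
        have hkb : y k p = c := by
          rw [hk]
          exact c3_a p c g hbc hgb.symm hgc.symm
        have hka : y k a = a := by
          rw [hk]
          exact c3_other p c g a hbc hgb.symm hgc.symm hab hac hga.symm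
        by_cases hk1 : k = k₁
        · rw [hk1, h1, c3_b a p d hab hda.symm hdb.symm] at hkb
          exact hdc hkb
        · obtain ⟨p', g', hp', hg', hk'⟩ :=
            c3_of_order_two (y k₁) (y k) (hy k₁) (hy k) (hR k₁ k (Ne.symm hk1))
          have hg'a : g' ≠ a := by
            rintro rfl
            rw [h1, c3_a g' p d hab hda.symm hdb.symm] at hg'
            exact hab hg'.symm
          have hg'b : g' ≠ p := by
            rintro rfl
            rw [h1, c3_b a g' d hab hda.symm hdb.symm] at hg'
            exact hdb hg'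
          have hg'd : g' ≠ d := by
            rintro rfl
            rw [h1, c3_c a p g' hab hda.symm hdb.symm] at hg'
            exact hda hg'.symm
          have hp3' : p' = a ∨ p' = p ∨ p' = d := by
            apply c3_moved a p d p' hab hda.symm hdb.symm
            rw [← h1]
            exact hp'
          rcases hp3' with rfl | rfl | rfl
          · rw [h1, c3_a p' p d hab hda.symm hdb.symm] at hk'
            have h9 : y k p' = p := by
              rw [hk']
              exact c3_a p' p g' hab hg'a.symm hg'b.symm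
            rw [hka] at h9
            exact hab h9
          · rw [h1, c3_b a p' d hab hda.symm hdb.symm] at hk'
            have h9 : y k p' = d := by
              rw [hk']
              exact c3_a p' d g' hdb.symm hg'b.symm hg'd.symm
            rw [hkb] at h9
            exact hdc h9.symm
          · rw [h1, c3_c a p p' hab hda.symm hdb.symm] at hk'
            have h9 : y k p = p := by
              rw [hk']
              exact c3_other p' a g' p hda hg'd.symm hg'a.symm hdb.symm hab.symm hg'b.symm
            rw [hkb] at h9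
            exact hbc h9.symm
      · exfalso
        rw [hca] at hk
        -- y k = c3 p a g where p = c
        have hkc : y k p = a := by
          rw [hk]
          exact c3_a p a g hac.symm hgc.symm hga.symm
        have hka : y k a = g := by
          rw [hk]
          exact c3_b p a g hac.symm hgc.symm hga.symm
        by_cases hk1 : k = k₁
        · rw [hk1, h1, c3_a a b d hab hda.symm hdb.symm] at hka
          exact hgb hka.symm
        · obtain ⟨p', g', hp', hg', hk'⟩ :=
            c3_of_order_two (y k₁) (y k) (hy k₁) (hy k) (hR k₁ k (Ne.symm hk1))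
          have hg'a : g' ≠ a := by
            rintro rfl
            rw [h1, c3_a g' b d hab hda.symm hdb.symm] at hg'
            exact hab hg'.symm
          have hg'b : g' ≠ b := by
            rintro rfl
            rw [h1, c3_b a g' d hab hda.symm hdb.symm] at hg'
            exact hdb hg'
          have hg'd : g' ≠ d := by
            rintro rfl
            rw [h1, c3_c a b g' hab hda.symm hdb.symm] at hg'
            exact hda hg'.symm
          have hp3' : p' = a ∨ p' = b ∨ p' = d := by
            apply c3_moved a b d p' hab hda.symm hdb.symm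
            rw [← h1]
            exact hp'
          rcases hp3' with rfl | rfl | rfl
          · rw [h1, c3_a p' b d hab hda.symm hdb.symm] at hk'
            have h9 : y k p' = b := by
              rw [hk']
              exact c3_a p' b g' hab hg'a.symm hg'b.symm
            rw [hka] at h9
            exact hgb h9
          · rw [h1, c3_b a p' d hab hda.symm hdb.symm] at hk'
            have h9 : y k a = a := by
              rw [hk']
              exact c3_other p' d g' a hdb.symm hg'b.symm hg'd.symm hab hda.symm hg'a.symm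
            rw [hka] at h9
            exact hga h9
          · rw [h1, c3_c a b p' hab hda.symm hdb.symm] at hk'
            have h9 : y k p' = a := by
              rw [hk']
              exact c3_a p' a g' hda hg'd.symm hg'a.symm
            have h10 : p' = p := (y k).injective (h9.trans hkc.symm)
            exact hdc h10
  refine ⟨a, b, hab, hmain, ?_⟩
  intro k l hkl heq
  have h2 : y k = y l := by
    rw [(hmain k).2.2, (hmain l).2.2, heq]
  have h3 := hR k l hkl
  rw [h2, (hy l).isThreeCycle_sq.orderOf] at h3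
  omega

end Config

end Cfsg.Agent.Helper18.AutAlt
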