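import Mathlib
import Cfsg.Prelude.Def_SporadicB
import Cfsg.Agent.Helper18.DihKlein
import Cfsg.Agent.Helper18.DblAlt
import Cfsg.Agent.S2530
import Cfsg.Agent.S3335

set_option autoImplicit false
set_option linter.unusedSectionVars false
set_option linter.unusedVariables false

namespace Cfsg.Agent.Helper18.DblInv

open Subgroup
open scoped Pointwise

section Abstract

theorem dih_card_le {G : Type*} [Group G] [Finite G] (a b : G) (ha : a * a = 1) (hb : b * b = 1)
    (k : ℕ) (hk : 0 < k) (hc : (a * b) ^ k = 1) :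
    Nat.card (zpowers (a * b) ⊔ zpowers a : Subgroup G) ≤ 2 * k := by
  have hainv : a⁻¹ = a := inv_eq_of_mul_eq_one_left ha
  have hbinv : b⁻¹ = b := inv_eq_of_mul_eq_one_left hb
  have hconj : a * (a * b) * a⁻¹ = (a * b)⁻¹ := by
    rw [mul_inv_rev, hainv, hbinv, ← mul_assoc, ha, one_mul]
  have hn : zpowers a ≤ normalizer (zpowers (a * b) : Set G) := by
    rw [zpowers_le]
    apply Cfsg.Agent.Helper18.DihKlein.dk_mem_normalizer
    intro u hu
    obtain ⟨i, rfl⟩ := mem_zpowers_iff.mp hu
    rw [← conj_zpow, hconj]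
    exact zpow_mem (inv_mem (mem_zpowers _)) i
  have h1 := coe_mul_of_right_le_normalizer_left (zpowers (a * b)) (zpowers a) hn
  have h2 : Nat.card (zpowers (a * b) ⊔ zpowers a : Subgroup G) =
      Nat.card ((zpowers (a * b) : Set G) * (zpowers a : Set G) : Set G) := by
    rw [← h1]
    rfl
  rw [h2]
  have h3 : Nat.card (zpowers (a * b) : Set G) ≤ k := by
    show Nat.card (zpowers (a * b)) ≤ k
    rw [Nat.card_zpowers]
    exact Nat.le_of_dvd hk (orderOf_dvd_of_pow_eq_one hc)
  have h4 : Nat.card (zpowers a : Set G) ≤ 2 := by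
    show Nat.card (zpowers a) ≤ 2
    rw [Nat.card_zpowers]
    exact Nat.le_of_dvd (by norm_num) (orderOf_dvd_of_pow_eq_one (by rw [pow_two]; exact ha))
  calc Nat.card ((zpowers (a * b) : Set G) * (zpowers a : Set G) : Set G)
      ≤ Nat.card (zpowers (a * b) : Set G) * Nat.card (zpowers a : Set G) := Set.natCard_mul_le
    _ ≤ k * 2 := Nat.mul_le_mul h3 h4
    _ = 2 * k := mul_comm _ _

theorem central_split {H : Type*} [Group H] [Finite H] (z : H) (hz : z ∈ center H)
    (hz2 : z * z = 1) (S L : Subgroup H) (hLS : L ≤ S) (hzS : z ∈ S) (hzL : z ∉ L)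
    (hidx : L.relIndex S = 2) (hodd : Odd S.index) :
    ∃ M : Subgroup H, z ∉ M ∧ ∀ h, h ∈ M ∨ z * h ∈ M := by
  have hN : (L.subgroupOf S).index = 2 := hidx
  have : (L.subgroupOf S).Normal := normal_of_index_eq_two hN
  have hcard : Nat.card (S ⧸ L.subgroupOf S) = 2 := hN
  have : Fact (Nat.Prime 2) := ⟨Nat.prime_two⟩
  have : IsCyclic (S ⧸ L.subgroupOf S) := isCyclic_of_prime_card hcard
  let _ : CommGroup (S ⧸ L.subgroupOf S) := IsCyclic.commGroup
  let ϕ : S →* S ⧸ L.subgroupOf S := QuotientGroup.mk' _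
  have key : ∀ (k : ℕ) (g₀ : H), g₀⁻¹ * z ^ k * g₀ ∈ S → g₀⁻¹ * z ^ k * g₀ = z ^ k := by
    intro k g₀ _
    have hc : z ^ k ∈ center H := pow_mem hz k
    rw [mem_center_iff] at hc
    rw [mul_assoc, ← hc g₀, inv_mul_cancel_left]
  have hV : MonoidHom.transfer ϕ z = ϕ ⟨z ^ S.index, MonoidHom.transfer_eq_pow_aux z key⟩ :=
    MonoidHom.transfer_eq_pow ϕ z key
  have hzpow : z ^ S.index = z := by
    obtain ⟨t, ht⟩ := hodd
    rw [ht, pow_succ, pow_mul, pow_two, hz2, one_pow, one_mul]
  have hVz : MonoidHom.transfer ϕ z ≠ 1 := by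
    rw [hV]
    intro h1
    have h2 : (⟨z ^ S.index, MonoidHom.transfer_eq_pow_aux z key⟩ : S) ∈ L.subgroupOf S :=
      (QuotientGroup.eq_one_iff _).mp h1
    rw [mem_subgroupOf] at h2
    have h3 : z ^ S.index ∈ L := h2
    rw [hzpow] at h3
    exact hzL h3
  refine ⟨(MonoidHom.transfer ϕ).ker, fun h => hVz (MonoidHom.mem_ker.mp h), fun h => ?_⟩
  by_cases h1 : MonoidHom.transfer ϕ h = 1
  · exact Or.inl (MonoidHom.mem_ker.mpr h1)
  · right
    rw [MonoidHom.mem_ker, map_mul]
    obtain ⟨y, hy, huniq⟩ := (Nat.card_eq_two_iff' (1 : S ⧸ L.subgroupOf S)).mp hcard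
    have e1 : MonoidHom.transfer ϕ h = y := huniq _ h1
    have e2 : MonoidHom.transfer ϕ z = y := huniq _ hVz
    have e3 := map_mul (MonoidHom.transfer ϕ) z z
    rw [hz2, map_one, e2] at e3
    rw [e1, e2]
    exact e3.symm

theorem complement_of_lift {H K : Type*} [Group H] [Finite H] [Group K] [Finite K]
    (π : H →* K) (hπ : Function.Surjective π) (hker : π.ker = center H)
    (hZ : Nat.card (center H) = 2)
    (hlift : ∀ u : H, π u * π u = 1 → u * u = 1)
    (a' b' : K) (j : ℕ) (hj : 0 < j) (ha' : a' * a' = 1) (hb' : b' * b' = 1)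
    (hord : orderOf (a' * b') = 2 * j) (hnot : a' ∉ zpowers (a' * b'))
    (hodd : Odd (Nat.card K / (4 * j))) :
    ∃ M : Subgroup H, IsComplement' (center H) M := by
  obtain ⟨a, hπa⟩ := hπ a'
  obtain ⟨b, hπb⟩ := hπ b'
  have ha : a * a = 1 := hlift a (by rw [hπa]; exact ha')
  have hb : b * b = 1 := hlift b (by rw [hπb]; exact hb')
  have hc' : (a' * b') ^ (2 * j) = 1 := by rw [← hord]; exact pow_orderOf_eq_one _
  have hcj : (a * b) ^ j * (a * b) ^ j = 1 := by
    apply hlift
    rw [map_pow, map_mul, hπa, hπb, ← pow_add, ← two_mul]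
    exact hc'
  have hc : (a * b) ^ (2 * j) = 1 := by rw [two_mul, pow_add]; exact hcj
  have hLle : Nat.card (zpowers (a * b) ⊔ zpowers a : Subgroup H) ≤ 2 * (2 * j) :=
    dih_card_le a b ha hb (2 * j) (by omega) hc
  have hSle : Nat.card (zpowers (a' * b') ⊔ zpowers a' : Subgroup K) ≤ 2 * (2 * j) :=
    dih_card_le a' b' ha' hb' (2 * j) (by omega) hc'
  have hmap : (zpowers (a * b) ⊔ zpowers a : Subgroup H).map π =
      zpowers (a' * b') ⊔ zpowers a' := by
    rw [Subgroup.map_sup, MonoidHom.map_zpowers, MonoidHom.map_zpowers, map_mul, hπa, hπb]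
  have hSge : 2 * (2 * j) ≤ Nat.card (zpowers (a' * b') ⊔ zpowers a' : Subgroup K) := by
    have hle : zpowers (a' * b') ≤ zpowers (a' * b') ⊔ zpowers a' := le_sup_left
    obtain ⟨t, ht⟩ := card_dvd_of_le hle
    rw [Nat.card_zpowers, hord] at ht
    have ht0 : t ≠ 0 := by
      rintro rfl
      rw [mul_zero] at ht
      exact Nat.card_pos.ne' ht
    have ht1 : t ≠ 1 := by
      rintro rfl
      rw [mul_one] at ht
      have := eq_of_le_of_card_ge hle (by rw [Nat.card_zpowers, hord, ht])
      apply hnot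
      rw [this]
      exact (le_sup_right : zpowers a' ≤ _) (mem_zpowers a')
    rw [ht]
    have : 2 ≤ t := by omega
    calc 2 * (2 * j) = 2 * j * 2 := by ring
      _ ≤ 2 * j * t := Nat.mul_le_mul_left _ this
  have hScard : Nat.card (zpowers (a' * b') ⊔ zpowers a' : Subgroup K) = 2 * (2 * j) :=
    le_antisymm hSle hSge
  set L : Subgroup H := zpowers (a * b) ⊔ zpowers a with hLdef
  set S' : Subgroup K := zpowers (a' * b') ⊔ zpowers a' with hS'def
  have hLcard : Nat.card L = 2 * (2 * j) := by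
    apply le_antisymm hLle
    rw [← hScard, ← hmap]
    exact Nat.le_of_dvd Nat.card_pos (card_map_dvd L π)
  have hinj : ∀ u ∈ L, π u = 1 → u = 1 := by
    intro u hu hu1
    let f : L → L.map π := fun u => ⟨π u.1, mem_map_of_mem π u.2⟩
    have hf : Function.Surjective f := by
      rintro ⟨y, u, hu, rfl⟩
      exact ⟨⟨u, hu⟩, rfl⟩
    have hbij : Function.Bijective f :=
      (Nat.bijective_iff_surjective_and_card f).mpr ⟨hf, by rw [hLcard, hmap, hScard]⟩
    have h1 : f ⟨u, hu⟩ = f ⟨1, L.one_mem⟩ := by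
      apply Subtype.ext
      show π u = π 1
      rw [hu1, map_one]
    exact congrArg Subtype.val (hbij.1 h1)
  obtain ⟨zz, hzz1, hzzu⟩ := (Nat.card_eq_two_iff' (1 : center H)).mp hZ
  have hz : zz.1 ∈ center H := zz.2
  have hz1 : zz.1 ≠ 1 := fun h => hzz1 (Subtype.ext h)
  have hz2 : zz.1 * zz.1 = 1 := by
    have h := pow_card_eq_one' (G := center H) (x := zz)
    rw [hZ] at h
    have h' := congrArg Subtype.val h
    rw [← pow_two]
    exact h'
  have hπz : π zz.1 = 1 := by
    rw [← MonoidHom.mem_ker, hker]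
    exact hz
  have hzL : zz.1 ∉ L := fun h => hz1 (hinj _ h hπz)
  set S : Subgroup H := S'.comap π with hSdef
  have hLS : L ≤ S := by
    rw [hSdef, ← hmap]
    exact le_comap_map π L
  have hzS : zz.1 ∈ S := by
    rw [hSdef, mem_comap, hπz]
    exact S'.one_mem
  have hSidx : S.index = S'.index := index_comap_of_surjective S' hπ
  have hS'idx : S'.index = Nat.card K / (4 * j) := by
    have h := card_mul_index S'
    rw [hScard] at h
    rw [← h]
    have e : 2 * (2 * j) = 4 * j := by ring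
    rw [e, Nat.mul_div_cancel_left _ (by omega)]
  have hHcard : Nat.card H = 2 * Nat.card K := by
    have h := card_mul_index π.ker
    rw [index_ker, MonoidHom.range_eq_top.mpr hπ, card_top, hker, hZ] at h
    exact h.symm
  have hLidx : L.index = 2 * S'.index := by
    have h1 := card_mul_index L
    have h2 := card_mul_index S'
    rw [hLcard, hHcard, ← h2, hScard] at h1
    have h3 : 2 * (2 * j) * L.index = 2 * (2 * j) * (2 * S'.index) := by rw [h1]; ring
    exact Nat.eq_of_mul_eq_mul_left (by omega) h3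
  have hrel : L.relIndex S = 2 := by
    have h := relIndex_mul_index hLS
    rw [hLidx, hSidx] at h
    have hpos : 0 < S'.index := by
      rw [hS'idx]
      exact hodd.pos
    exact Nat.eq_of_mul_eq_mul_right hpos h
  obtain ⟨M, hzM, hM⟩ := central_split zz.1 hz hz2 S L hLS hzS hzL hrel (by rw [hSidx, hS'idx]; exact hodd)
  refine ⟨M, isComplement'_of_disjoint_and_mul_eq_univ ?_ ?_⟩
  · rw [disjoint_def]
    intro x hx hxM
    by_contra hx1
    have : (⟨x, hx⟩ : center H) = zz := hzzu _ (fun h => hx1 (congrArg Subtype.val h))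
    apply hzM
    rw [← this]
    exact hxM
  · rw [Set.eq_univ_iff_forall]
    intro h
    rcases hM h with h1 | h1
    · exact ⟨1, (center H).one_mem, h, h1, one_mul h⟩
    · exact ⟨zz.1, hz, zz.1 * h, h1, by
        show zz.1 * (zz.1 * h) = h
        rw [← mul_assoc, hz2, one_mul]⟩

end Abstract


section Alt

open Equiv Equiv.Perm

theorem invol_cycleType {α : Type*} [Fintype α] [DecidableEq α] (hα : Fintype.card α ≤ 7)
    (g : Perm α) (hg : orderOf g = 2) (hs : Perm.sign g = 1) : g.cycleType = {2, 2} := by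
  obtain ⟨k, hk⟩ := cycleType_prime_order (σ := g) (by rw [hg]; exact Nat.prime_two)
  rw [hg] at hk
  have h1 := sign_of_cycleType g
  rw [hk, hs, Multiset.sum_replicate, Multiset.card_replicate] at h1
  have h2 := sum_cycleType_le g
  rw [hk, Multiset.sum_replicate] at h2
  have h3 : Even ((k + 1) • 2 + (k + 1)) := by
    by_contra hodd
    rw [Nat.not_even_iff_odd] at hodd
    rw [hodd.neg_one_pow] at h1
    exact absurd h1 (by decide)
  simp only [smul_eq_mul] at h2 h3
  have hk2 : k ≤ 2 := by omega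
  have hk1 : k = 1 := by
    interval_cases k
    · exact absurd h3 (by decide)
    · rfl
    · exact absurd h3 (by decide)
  rw [hk, hk1]
  rfl

theorem invol_conj (n : ℕ) (hn : n ≤ 7) (g h : alternatingGroup (Fin n)) (hg : orderOf g = 2)
    (hh : orderOf h = 2) : ∃ σ : alternatingGroup (Fin n), σ * g * σ⁻¹ = h := by
  have hg' : orderOf (g : Perm (Fin n)) = 2 := by rw [Subgroup.orderOf_coe]; exact hg
  have hh' : orderOf (h : Perm (Fin n)) = 2 := by rw [Subgroup.orderOf_coe]; exact hh
  have hcard : Fintype.card (Fin n) ≤ 7 := by rw [Fintype.card_fin]; exact hn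
  have c1 := invol_cycleType hcard g.1 hg' (mem_alternatingGroup.mp g.2)
  have c2 := invol_cycleType hcard h.1 hh' (mem_alternatingGroup.mp h.2)
  obtain ⟨τ, hτ⟩ := isConj_iff.mp (isConj_iff_cycleType_eq.mpr (c1.trans c2.symm))
  by_cases hs : Perm.sign τ = 1
  · exact ⟨⟨τ, mem_alternatingGroup.mpr hs⟩, Subtype.ext hτ⟩
  · have hs' : Perm.sign τ = -1 := (Int.units_eq_one_or _).resolve_left hs
    have hgg : g.1 * g.1 = 1 := by rw [← pow_two, ← hg']; exact pow_orderOf_eq_one _
    have hne : g.1 ≠ 1 := by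
      intro h1
      rw [h1, orderOf_one] at hg'
      exact absurd hg' (by norm_num)
    obtain ⟨a, ha⟩ : ∃ a, g.1 a ≠ a := by
      by_contra hall
      simp only [not_exists, not_not] at hall
      exact hne (Perm.ext hall)
    have hga : g.1 (g.1 a) = a := congrArg (fun f : Perm (Fin n) => f a) hgg
    have hcomm : g.1 * swap a (g.1 a) = swap a (g.1 a) * g.1 := by
      rw [mul_swap_eq_swap_mul, hga, swap_comm]
    refine ⟨⟨τ * swap a (g.1 a), ?_⟩, ?_⟩
    · rw [mem_alternatingGroup, Perm.sign_mul, hs', sign_swap ha.symm]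
      rfl
    · apply Subtype.ext
      show τ * swap a (g.1 a) * g.1 * (τ * swap a (g.1 a))⁻¹ = h.1
      rw [mul_inv_rev, swap_inv, ← hτ]
      calc τ * swap a (g.1 a) * g.1 * (swap a (g.1 a) * τ⁻¹)
          = τ * (swap a (g.1 a) * g.1) * swap a (g.1 a) * τ⁻¹ := by group
        _ = τ * (g.1 * swap a (g.1 a)) * swap a (g.1 a) * τ⁻¹ := by rw [hcomm]
        _ = τ * g.1 * (swap a (g.1 a) * swap a (g.1 a)) * τ⁻¹ := by group
        _ = τ * g.1 * τ⁻¹ := by rw [swap_mul_self, mul_one]

theorem alt_data_aux (n j : ℕ) (hn2 : 2 ≤ n) (hj : 0 < j) (a b : Perm (Fin n))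
    (ha : a ∈ alternatingGroup (Fin n)) (hb : b ∈ alternatingGroup (Fin n))
    (haa : a * a = 1) (hbb : b * b = 1) (hord : orderOf (a * b) = 2 * j)
    (hnot : ∀ i < 2 * j, (a * b) ^ i ≠ a) (hodd : Odd (n.factorial / 2 / (4 * j))) :
    ∃ (a' b' : alternatingGroup (Fin n)) (j : ℕ), 0 < j ∧ a' * a' = 1 ∧ b' * b' = 1 ∧
      orderOf (a' * b') = 2 * j ∧ a' ∉ Subgroup.zpowers (a' * b') ∧
      Odd (Nat.card (alternatingGroup (Fin n)) / (4 * j)) := by
  obtain ⟨m, rfl⟩ : ∃ m, n = m + 2 := ⟨n - 2, by omega⟩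
  refine ⟨⟨a, ha⟩, ⟨b, hb⟩, j, hj, Subtype.ext haa, Subtype.ext hbb, ?_, ?_, ?_⟩
  · rw [← Subgroup.orderOf_coe]
    exact hord
  · intro hmem
    obtain ⟨i, hi⟩ := Subgroup.mem_zpowers_iff.mp hmem
    have hi' : (a * b) ^ i = a := by
      have := congrArg Subtype.val hi
      rw [Subgroup.coe_zpow] at this
      exact this
    have hmem' : a ∈ Subgroup.zpowers (a * b) := Subgroup.mem_zpowers_iff.mpr ⟨i, hi'⟩
    rw [mem_zpowers_iff_mem_range_orderOf, hord, Finset.mem_image] at hmem'
    obtain ⟨i, hi, h⟩ := hmem'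
    exact hnot i (Finset.mem_range.mp hi) h
  · rw [nat_card_alternatingGroup, Nat.card_fin]
    exact hodd

theorem alt_data (n : ℕ) (h4 : 4 ≤ n) (h7 : n ≤ 7) :
    ∃ (a' b' : alternatingGroup (Fin n)) (j : ℕ), 0 < j ∧ a' * a' = 1 ∧ b' * b' = 1 ∧
      orderOf (a' * b') = 2 * j ∧ a' ∉ Subgroup.zpowers (a' * b') ∧
      Odd (Nat.card (alternatingGroup (Fin n)) / (4 * j)) := by
  interval_cases n
  · refine alt_data_aux 4 1 (by norm_num) one_pos (swap 0 1 * swap 2 3) (swap 0 2 * swap 1 3)
      ?_ ?_ (by decide) (by decide) ?_ ?_ (by decide)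
    · rw [mem_alternatingGroup, Perm.sign_mul, sign_swap (by decide), sign_swap (by decide)]; rfl
    · rw [mem_alternatingGroup, Perm.sign_mul, sign_swap (by decide), sign_swap (by decide)]; rfl
    · show orderOf _ = 2
      exact orderOf_eq_prime (by decide) (by decide)
    · intro i hi
      interval_cases i <;> decide
  · refine alt_data_aux 5 1 (by norm_num) one_pos (swap 0 1 * swap 2 3) (swap 0 2 * swap 1 3)
      ?_ ?_ (by decide) (by decide) ?_ ?_ (by decide)
    · rw [mem_alternatingGroup, Perm.sign_mul, sign_swap (by decide), sign_swap (by decide)]; rfl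
    · rw [mem_alternatingGroup, Perm.sign_mul, sign_swap (by decide), sign_swap (by decide)]; rfl
    · show orderOf _ = 2
      exact orderOf_eq_prime (by decide) (by decide)
    · intro i hi
      interval_cases i <;> decide
  · refine alt_data_aux 6 2 (by norm_num) (by norm_num) (swap 0 1 * swap 2 3)
      (swap 1 2 * swap 4 5) ?_ ?_ (by decide) (by decide) ?_ ?_ (by decide)
    · rw [mem_alternatingGroup, Perm.sign_mul, sign_swap (by decide), sign_swap (by decide)]; rfl
    · rw [mem_alternatingGroup, Perm.sign_mul, sign_swap (by decide), sign_swap (by decide)]; rfl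
    · exact orderOf_eq_prime_pow (p := 2) (n := 1) (by decide) (by decide)
    · intro i hi
      interval_cases i <;> decide
  · refine alt_data_aux 7 2 (by norm_num) (by norm_num) (swap 0 1 * swap 2 3)
      (swap 1 2 * swap 4 5) ?_ ?_ (by decide) (by decide) ?_ ?_ (by decide)
    · rw [mem_alternatingGroup, Perm.sign_mul, sign_swap (by decide), sign_swap (by decide)]; rfl
    · rw [mem_alternatingGroup, Perm.sign_mul, sign_swap (by decide), sign_swap (by decide)]; rfl
    · exact orderOf_eq_prime_pow (p := 2) (n := 1) (by decide) (by decide)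
    · intro i hi
      interval_cases i <;> decide

theorem invol_central (n : ℕ) (hn : n ≤ 7) (H : Type*) [Group H] [Finite H]
    (hZ : Nat.card (Subgroup.center H) = 2) (e : H ⧸ Subgroup.center H ≃* alternatingGroup (Fin n))
    (hns : ∀ L : Subgroup H, ¬ (Subgroup.center H).IsComplement' L) (x : H) (hx : orderOf x = 2) :
    x ∈ Subgroup.center H := by
  by_contra hxc
  let π : H →* alternatingGroup (Fin n) :=
    e.toMonoidHom.comp (QuotientGroup.mk' (Subgroup.center H))
  have hπ : Function.Surjective π := e.surjective.comp (QuotientGroup.mk'_surjective _)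
  have hker : π.ker = Subgroup.center H := by
    ext u
    rw [MonoidHom.mem_ker]
    show e (QuotientGroup.mk u) = 1 ↔ _
    rw [MulEquiv.map_eq_one_iff]
    exact QuotientGroup.eq_one_iff u
  have hx2 : x * x = 1 := by rw [← pow_two, ← hx]; exact pow_orderOf_eq_one x
  have hπx : orderOf (π x) = 2 := by
    apply orderOf_eq_prime
    · rw [← map_pow, pow_two, hx2, map_one]
    · intro h
      apply hxc
      rw [← hker]
      exact MonoidHom.mem_ker.mpr h
  have hcenter_sq : ∀ w ∈ Subgroup.center H, w * w = 1 := by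
    intro w hw
    have h := pow_card_eq_one' (G := Subgroup.center H) (x := ⟨w, hw⟩)
    rw [hZ] at h
    have h' := congrArg Subtype.val h
    rw [← pow_two]
    exact h'
  have hlift : ∀ u : H, π u * π u = 1 → u * u = 1 := by
    intro u hu
    by_cases hu1 : π u = 1
    · exact hcenter_sq u (by rw [← hker]; exact MonoidHom.mem_ker.mpr hu1)
    · have hou : orderOf (π u) = 2 := orderOf_eq_prime (by rw [pow_two]; exact hu) hu1
      obtain ⟨σ, hσ⟩ := invol_conj n hn (π x) (π u) hπx hou
      obtain ⟨s, rfl⟩ := hπ σ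
      have hw : (s * x * s⁻¹)⁻¹ * u ∈ Subgroup.center H := by
        rw [← hker, MonoidHom.mem_ker, map_mul, map_inv, map_mul, map_mul, map_inv, hσ,
          inv_mul_cancel]
      have hwc := Subgroup.mem_center_iff.mp hw
      have hu_eq : u = (s * x * s⁻¹) * ((s * x * s⁻¹)⁻¹ * u) := by rw [mul_inv_cancel_left]
      have hww := hcenter_sq _ hw
      generalize (s * x * s⁻¹)⁻¹ * u = w at hw hwc hu_eq hww
      rw [hu_eq]
      calc (s * x * s⁻¹) * w * ((s * x * s⁻¹) * w)
          = (s * x * s⁻¹) * (w * (s * x * s⁻¹)) * w := by group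
        _ = (s * x * s⁻¹) * ((s * x * s⁻¹) * w) * w := by rw [← hwc]
        _ = s * (x * x) * s⁻¹ * (w * w) := by group
        _ = 1 := by rw [hx2, hww, mul_one, mul_one, mul_inv_cancel]
  have h4 : 4 ≤ n := by
    have hc := invol_cycleType (by rw [Fintype.card_fin]; exact hn) (π x).1
      (by rw [Subgroup.orderOf_coe]; exact hπx) (mem_alternatingGroup.mp (π x).2)
    have h2 := sum_cycleType_le (π x).1
    rw [hc, Fintype.card_fin] at h2
    exact h2
  obtain ⟨a', b', j, hj, ha', hb', hord, hnot, hodd⟩ := alt_data n h4 hn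
  obtain ⟨M, hM⟩ := complement_of_lift π hπ hker hZ hlift a' b' j hj ha' hb' hord hnot hodd
  exact hns M hM

end Alt


section Cover

open Cfsg.Agent.Helper18.DblAlt Cfsg.Agent.Helper18

theorem invol_unique (n : ℕ) (hn : n ≤ 7) (H : Type*) [Group H] [Finite H]
    (hZ : Nat.card (Subgroup.center H) = 2) (e : H ⧸ Subgroup.center H ≃* alternatingGroup (Fin n))
    (hns : ∀ L : Subgroup H, ¬ (Subgroup.center H).IsComplement' L) (x y : H)
    (hx : orderOf x = 2) (hy : orderOf y = 2) : x = y := by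
  have hxc := invol_central n hn H hZ e hns x hx
  have hyc := invol_central n hn H hZ e hns y hy
  obtain ⟨zz, _, huniq⟩ := (Nat.card_eq_two_iff' (1 : Subgroup.center H)).mp hZ
  have h1 : (⟨x, hxc⟩ : Subgroup.center H) = zz := huniq _ (fun h => by
    have h' : x = 1 := congrArg Subtype.val h
    rw [h', orderOf_one] at hx
    exact absurd hx (by norm_num))
  have h2 : (⟨y, hyc⟩ : Subgroup.center H) = zz := huniq _ (fun h => by
    have h' : y = 1 := congrArg Subtype.val h
    rw [h', orderOf_one] at hy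
    exact absurd hy (by norm_num))
  exact congrArg Subtype.val (h1.trans h2.symm)

theorem center_D (k : ℕ) (hk : 2 ≤ k)
    (e : PresentedGroup (AltPres.rels k) ≃* alternatingGroup (Fin (k + 2))) :
    Subgroup.center (D k) = Subgroup.zpowers (dz k) := by
  apply le_antisymm
  · intro g hg
    have h2 : ((quotEquiv k).trans e) (QuotientGroup.mk g) ∈
        Subgroup.center (alternatingGroup (Fin (k + 2))) := by
      rw [Subgroup.mem_center_iff]
      intro y
      obtain ⟨q, rfl⟩ := ((quotEquiv k).trans e).surjective y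
      obtain ⟨g', rfl⟩ := QuotientGroup.mk_surjective q
      rw [← map_mul, ← map_mul, ← QuotientGroup.mk_mul, ← QuotientGroup.mk_mul,
        (Subgroup.mem_center_iff.mp hg) g']
    rw [alternatingGroup.center_eq_bot (by rw [Nat.card_fin]; omega), Subgroup.mem_bot] at h2
    exact (QuotientGroup.eq_one_iff g).mp ((MulEquiv.map_eq_one_iff _).mp h2)
  · exact Subgroup.zpowers_le.mpr (dz_center k)

theorem D_nonsplit (k : ℕ) (hk : 2 ≤ k) [Finite (D k)]
    (hc : Subgroup.center (D k) = Subgroup.zpowers (dz k)) :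
    ∀ L : Subgroup (D k), ¬ (Subgroup.center (D k)).IsComplement' L := by
  intro L hL
  have hidx : L.index = 2 := by
    rw [hL.index_eq_card, hc, Nat.card_zpowers, dz_order]
  have : L.Normal := Subgroup.normal_of_index_eq_two hidx
  have hcard : Nat.card (D k ⧸ L) = 2 := hidx
  have : Fact (Nat.Prime 2) := ⟨Nat.prime_two⟩
  have : IsCyclic (D k ⧸ L) := isCyclic_of_prime_card hcard
  let _ : CommGroup (D k ⧸ L) := IsCyclic.commGroup
  have hle : commutator (D k) ≤ (QuotientGroup.mk' L).ker :=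
    Abelianization.commutator_subset_ker _
  have hz : dz k ∈ L := by
    have h := hle (dz_commutator k ⟨0, by omega⟩ ⟨1, by omega⟩ rfl rfl)
    rwa [QuotientGroup.ker_mk'] at h
  exact dz_ne_one k (Subgroup.disjoint_def.mp hL.disjoint (dz_center k) hz)

theorem anti {G : Type*} [Group G] (z p q : G) (hzc : ∀ g, g * z = z * g) (hz : z * z = 1)
    (hp : p * p = z) (hq : q * q = z) (hpq : p * q * (p * q) = z) : q * p = z * (p * q) := by
  have pinv : p⁻¹ = z * p := inv_eq_of_mul_eq_one_right (by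
    rw [← mul_assoc, hzc p, mul_assoc, hp, hz])
  have qinv : q⁻¹ = z * q := inv_eq_of_mul_eq_one_right (by
    rw [← mul_assoc, hzc q, mul_assoc, hq, hz])
  calc q * p = p⁻¹ * (p * q * (p * q)) * q⁻¹ := by group
    _ = z * p * z * (z * q) := by rw [hpq, pinv, qinv]
    _ = z * (p * z) * (z * q) := by group
    _ = z * (z * p) * (z * q) := by rw [hzc p]
    _ = (z * z) * (p * z) * q := by group
    _ = z * (p * q) := by rw [hz, one_mul, hzc p, mul_assoc]

theorem far3 {G : Type*} [Group G] (z p q r : G) (hzc : ∀ g, g * z = z * g) (hz : z * z = 1)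
    (hp : p * p = z) (hq : q * q = z) (hr : r * r = z) (hpq : p * q * (p * q) = z)
    (hqr : q * r * (q * r) = z) (hpr : p * r * (p * r) = z) :
    (p * q⁻¹ * r) * (p * q⁻¹ * r) = 1 := by
  have qinv : q⁻¹ = z * q := inv_eq_of_mul_eq_one_right (by
    rw [← mul_assoc, hzc q, mul_assoc, hq, hz])
  have A := anti z p q hzc hz hp hq hpq
  have B := anti z p r hzc hz hp hr hpr
  have C := anti z q r hzc hz hq hr hqr
  have hzc2 : ∀ g h : G, g * (z * h) = z * (g * h) := by
    intro g h
    rw [← mul_assoc, hzc g, mul_assoc]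
  have hz' : ∀ h : G, z * (z * h) = h := by
    intro h
    rw [← mul_assoc, hz, one_mul]
  have e1 : p * q⁻¹ * r = z * (p * q * r) := by
    rw [qinv, ← mul_assoc p, hzc p, mul_assoc z, mul_assoc z]
  have key : p * q * r * (p * q * r) = 1 := by
    calc p * q * r * (p * q * r) = p * q * (r * p) * (q * r) := by group
      _ = p * q * (z * (p * r)) * (q * r) := by rw [B]
      _ = z * (p * (q * p) * (r * q) * r) := by
        rw [hzc2 (p * q), mul_assoc z]
        congr 1
        group
      _ = z * (p * (z * (p * q)) * (z * (q * r)) * r) := by rw [A, C]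
      _ = z * (z * (z * ((p * p) * (q * q) * (r * r)))) := by
        rw [hzc2 p, mul_assoc z _ (z * _), hzc2 _ (q * r), mul_assoc z _ r, mul_assoc z _ r]
        congr 3
        group
      _ = 1 := by simp only [hp, hq, hr, hz, one_mul, mul_one]
  rw [e1, mul_assoc z, hzc2, hz']
  exact key

theorem xinv_sq : (dx 6 1 * (dx 6 3)⁻¹ * dx 6 5) * (dx 6 1 * (dx 6 3)⁻¹ * dx 6 5) = 1 := by
  have hzc : ∀ g : D 6, g * dz 6 = dz 6 * g := Subgroup.mem_center_iff.mp (dz_center 6)
  have hz : dz 6 * dz 6 = 1 := by rw [← pow_two]; exact dz_sq 6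
  apply far3 (dz 6) _ _ _ hzc hz
  · rw [← pow_two]; exact dx_sq 6 1 (by decide)
  · rw [← pow_two]; exact dx_sq 6 3 (by decide)
  · rw [← pow_two]; exact dx_sq 6 5 (by decide)
  · rw [← pow_two]; exact dx_far 6 1 3 (by decide)
  · rw [← pow_two]; exact dx_far 6 3 5 (by decide)
  · rw [← pow_two]; exact dx_far 6 1 5 (by decide)

theorem xinv_image (cs : CoxeterSystem (CoxeterMatrix.A 7) (Equiv.Perm (Fin 8)))
    (hcs : ∀ i : Fin 7, cs.simple i = Equiv.swap i.castSucc i.succ) :
    (AltPres.piHom 6 cs) (toAlt 6 (dx 6 1 * (dx 6 3)⁻¹ * dx 6 5)) ≠ 1 := by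
  simp only [map_mul, map_inv, toAlt_x, AltPres.piHom_of, hcs]
  decide

theorem cover8 : ∃ (H : Type) (_ : Group H) (_ : Finite H),
    Cfsg.IsNonsplitDoubleCover H (alternatingGroup (Fin 8)) ∧
      ∃ x y : H, x ≠ y ∧ orderOf x = 2 ∧ orderOf y = 2 := by
  obtain ⟨e⟩ := Cfsg.Agent.S3335.result 8 (by norm_num)
  have e' : PresentedGroup (AltPres.rels 6) ≃* alternatingGroup (Fin 8) := e
  have hf : Finite (PresentedGroup (AltPres.rels 6)) := Finite.of_equiv _ e'.symm.toEquiv
  have hfin : Finite (D 6) := d_finite 6 hf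
  have hc : Subgroup.center (D 6) = Subgroup.zpowers (dz 6) := center_D 6 (by norm_num) e'
  obtain ⟨cs, hcs⟩ := Cfsg.Agent.S2530.result 7
  have him := xinv_image cs hcs
  have hx1 : dx 6 1 * (dx 6 3)⁻¹ * dx 6 5 ≠ 1 := by
    intro h
    rw [h, map_one, map_one] at him
    exact him rfl
  have hxz : dx 6 1 * (dx 6 3)⁻¹ * dx 6 5 ≠ dz 6 := by
    intro h
    rw [h, toAlt_z, map_one] at him
    exact him rfl
  refine ⟨D 6, inferInstance, hfin, ?_, dx 6 1 * (dx 6 3)⁻¹ * dx 6 5, dz 6, hxz,
    orderOf_eq_prime (by rw [pow_two]; exact xinv_sq) hx1, dz_order 6⟩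
  refine ⟨?_, ⟨?_⟩, D_nonsplit 6 (by norm_num) hc⟩
  · rw [hc, Nat.card_zpowers, dz_order]
  · exact (QuotientGroup.quotientMulEquivOfEq hc).trans ((quotEquiv 6).trans e')

end Cover

end Cfsg.Agent.Helper18.DblInv
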