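import Mathlib
import Cfsg.Agent.Helper1.PUnique

set_option autoImplicit false

namespace Cfsg.Agent.Helper18.FpfNorm

/-- reindexing a product over `range p` along multiplication by a unit modulo `p` -/
theorem prod_mul_mod {V : Type*} [CommMonoid V] (p : ℕ) (hp : p.Prime) (i : ℕ) (hi0 : 0 < i)
    (hip : i < p) (f : ℕ → V) :
    ∏ k ∈ Finset.range p, f ((k * i) % p) = ∏ j ∈ Finset.range p, f j := by
  have hcop : Nat.Coprime p i := by
    rw [Nat.Prime.coprime_iff_not_dvd hp]
    exact Nat.not_dvd_of_pos_of_lt hi0 hip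
  have hinj : Set.InjOn (fun k => (k * i) % p) (Finset.range p : Set ℕ) := by
    intro k hk k' hk' h
    have hk1 : k < p := Finset.mem_range.mp hk
    have hk2 : k' < p := Finset.mem_range.mp hk'
    have h1 : k * i ≡ k' * i [MOD p] := h
    have h2 : k ≡ k' [MOD p] := Nat.ModEq.cancel_right_of_coprime hcop h1
    exact Nat.ModEq.eq_of_lt_of_lt h2 hk1 hk2
  have himg : (Finset.range p).image (fun k => (k * i) % p) = Finset.range p := by
    apply Finset.eq_of_subset_of_card_le
    · intro j hj
      obtain ⟨k, _, rfl⟩ := Finset.mem_image.mp hj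
      exact Finset.mem_range.mpr (Nat.mod_lt _ hp.pos)
    · rw [Finset.card_image_of_injOn hinj]
  rw [← Finset.prod_image (f := f) hinj, himg]

/-- two commuting automorphisms of order `p` of an abelian group, generating a group all of
whose relevant elements act without fixed points, force exponent `p` -/
theorem pow_eq_one_of_fpf {V : Type*} [CommGroup V] (p : ℕ) (hp : p.Prime) (α ζ : MulAut V)
    (hcomm : α * ζ = ζ * α) (hα : α ^ p = 1) (hζ : ζ ^ p = 1)
    (h1 : ∀ k : ℕ, ∀ v : V, (α * ζ ^ k) v = v → v = 1) (h2 : ∀ v : V, ζ v = v → v = 1)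
    (v : V) : v ^ p = 1 := by
  have hnorm : ∀ g : MulAut V, g ^ p = 1 → (∀ w : V, g w = w → w = 1) →
      ∀ w : V, ∏ i ∈ Finset.range p, (g ^ i) w = 1 := by
    intro g hg hfix w
    apply hfix
    rw [map_prod]
    have e1 : ∀ i, g ((g ^ i) w) = (g ^ (i + 1)) w := fun i => by
      rw [pow_succ', MulAut.mul_apply]
    simp only [e1]
    have e2 := Finset.prod_range_succ (fun i => (g ^ i) w) p
    have e3 := Finset.prod_range_succ' (fun i => (g ^ i) w) p
    rw [e2] at e3
    simp only [hg, pow_zero] at e3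
    exact (mul_right_cancel e3).symm
  have hc : Commute α ζ := hcomm
  have hpow : ∀ k i : ℕ, (α * ζ ^ k) ^ i = α ^ i * ζ ^ (k * i) := by
    intro k i
    rw [(hc.pow_right k).mul_pow, ← pow_mul]
  have hk : ∀ k : ℕ, ∏ i ∈ Finset.range p, ((α * ζ ^ k) ^ i) v = 1 := by
    intro k
    apply hnorm _ _ (h1 k)
    rw [(hc.pow_right k).mul_pow, hα, ← pow_mul, mul_comm, pow_mul, hζ, one_pow, one_mul]
  have hprod : ∏ k ∈ Finset.range p, ∏ i ∈ Finset.range p, (α ^ i) ((ζ ^ (k * i)) v) = 1 := by
    apply Finset.prod_eq_one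
    intro k _
    have := hk k
    simpa [hpow] using this
  rw [Finset.prod_comm] at hprod
  obtain ⟨q, rfl⟩ : ∃ q, p = q + 1 := ⟨p - 1, by have := hp.pos; omega⟩
  rw [Finset.prod_range_succ'] at hprod
  have hzero : ∏ k ∈ Finset.range (q + 1), (α ^ 0) ((ζ ^ (k * 0)) v) = v ^ (q + 1) := by
    simp
  have hrest : ∏ i ∈ Finset.range q, ∏ k ∈ Finset.range (q + 1),
      (α ^ (i + 1)) ((ζ ^ (k * (i + 1))) v) = 1 := by
    apply Finset.prod_eq_one
    intro i hi
    have hi' : i + 1 < q + 1 := by have := Finset.mem_range.mp hi; omega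
    rw [← map_prod]
    have e : ∏ k ∈ Finset.range (q + 1), (ζ ^ (k * (i + 1))) v =
        ∏ j ∈ Finset.range (q + 1), (ζ ^ j) v := by
      rw [← prod_mul_mod (q + 1) hp (i + 1) (Nat.succ_pos i) hi' (fun j => (ζ ^ j) v)]
      apply Finset.prod_congr rfl
      intro k _
      rw [pow_eq_pow_mod (k * (i + 1)) hζ]
    rw [e, hnorm ζ hζ h2 v, map_one]
  rw [hrest, one_mul, hzero] at hprod
  exact hprod

/-- a `p`-group, `p` odd, in which commuting elements of order `p` generate a cyclic group,
is cyclic -/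
theorem isCyclic_of_commuting {R : Type*} [Group R] [Finite R] (p : ℕ) [Fact p.Prime]
    (hodd : p ≠ 2) (hR : IsPGroup p R)
    (h : ∀ a z : R, a * z = z * a → a ^ p = 1 → z ^ p = 1 → z ≠ 1 → a ∈ Subgroup.zpowers z) :
    IsCyclic R := by
  apply Cfsg.Agent.Helper1.pgroup_unique_cyclic_odd p hodd hR
  have key : ∀ (z : R), orderOf z = p → z ∈ Subgroup.center R →
      ∀ A : Subgroup R, Nat.card A = p → A = Subgroup.zpowers z := by
    intro z hz hzc A hA
    have hz1 : z ≠ 1 := by
      intro h1
      rw [h1, orderOf_one] at hz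
      exact (Fact.out : p.Prime).one_lt.ne hz
    have hzp : z ^ p = 1 := by rw [← hz]; exact pow_orderOf_eq_one z
    apply Subgroup.eq_of_le_of_card_ge
    · intro a ha
      have hap : a ^ p = 1 := by
        have := pow_card_eq_one' (G := ↥A) (x := ⟨a, ha⟩)
        rw [hA] at this
        exact congrArg Subtype.val this
      exact h a z (Subgroup.mem_center_iff.mp hzc a) hap hzp hz1
    · rw [hA, Nat.card_zpowers, hz]
  intro A B hA hB
  have hnt : Nontrivial R := by
    rw [← Finite.one_lt_card_iff_nontrivial]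
    have h1 : Nat.card A ≤ Nat.card R := Subgroup.card_le_card_group A
    have := (Fact.out : p.Prime).one_lt
    omega
  have hZnt : Nontrivial ↥(Subgroup.center R) := hR.center_nontrivial
  have hZp : IsPGroup p ↥(Subgroup.center R) := hR.to_subgroup _
  have hdvd : p ∣ Nat.card ↥(Subgroup.center R) := by
    rcases hZp.card_eq_or_dvd with h1 | h1
    · exact absurd h1 (by
        have := Finite.one_lt_card (α := ↥(Subgroup.center R))
        omega)
    · exact h1
  obtain ⟨z, hz⟩ := exists_prime_orderOf_dvd_card' p hdvd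
  have hz' : orderOf (z : R) = p := by rw [Subgroup.orderOf_coe, hz]
  rw [key z hz' z.2 A hA, key z hz' z.2 B hB]

end Cfsg.Agent.Helper18.FpfNorm
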