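import Mathlib
import Cfsg.Prelude.Def_Local
import Cfsg.Agent.Helper18.AutAlt
import Cfsg.Agent.Helper9.Quasi

set_option autoImplicit false
set_option linter.unusedSectionVars false
set_option linter.unusedVariables false

namespace Cfsg.Agent.Helper18.StdAlt

open Equiv Equiv.Perm Cfsg.Agent.Helper18.AutAlt

theorem quasi_of_simple (S : Type*) [Group S] [IsSimpleGroup S] (hS : ¬ IsMulCommutative S) :
    Cfsg.IsQuasisimple S := by
  have hc : Subgroup.center S = ⊥ := by
    rcases (inferInstance : (Subgroup.center S).Normal).eq_bot_or_eq_top with h | h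
    · exact h
    · exfalso
      apply hS
      refine ⟨⟨fun a b => ?_⟩⟩
      have hb : b ∈ Subgroup.center S := by rw [h]; exact Subgroup.mem_top b
      exact Subgroup.mem_center_iff.mp hb a
  constructor
  · rw [Group.isPerfect_def]
    rcases (inferInstance : (commutator S).Normal).eq_bot_or_eq_top with h | h
    · exfalso
      rw [commutator_eq_bot_iff_center_eq_top, hc] at h
      exact bot_ne_top h
    · exact h
  · exact ((QuotientGroup.quotientMulEquivOfEq hc).trans QuotientGroup.quotientBot).isSimpleGroup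

theorem invol_support {α : Type*} [DecidableEq α] [Fintype α] (k : Perm α)
    (hk : orderOf k = 2) (hs : Perm.sign k = 1) : 4 ≤ k.support.card := by
  obtain ⟨m, hm⟩ := cycleType_prime_order (σ := k) (by rw [hk]; exact Nat.prime_two)
  rw [hk] at hm
  have hsum := Perm.sum_cycleType k
  rw [hm, Multiset.sum_replicate, smul_eq_mul] at hsum
  by_contra hlt
  have hm0 : m = 0 := by omega
  have hsign : Perm.sign k = -1 := by
    rw [Perm.sign_of_cycleType, hm, hm0]
    rfl
  rw [hs] at hsign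
  exact absurd hsign (by decide)

variable {n : ℕ}

/-- pointwise stabilizer of the first four points -/
def Lsub (n : ℕ) : Subgroup (alternatingGroup (Fin n)) where
  carrier := {g | ∀ x : Fin n, x.val < 4 → (g : Perm (Fin n)) x = x}
  mul_mem' := by
    intro a b ha hb x hx
    show (a : Perm (Fin n)) ((b : Perm (Fin n)) x) = x
    rw [hb x hx, ha x hx]
  one_mem' := fun x _ => rfl
  inv_mem' := by
    intro a ha x hx
    show (a : Perm (Fin n))⁻¹ x = x
    rw [Perm.inv_eq_iff_eq]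
    exact (ha x hx).symm

/-- pointwise stabilizer of the other points -/
def Csub (n : ℕ) : Subgroup (alternatingGroup (Fin n)) where
  carrier := {g | ∀ x : Fin n, 4 ≤ x.val → (g : Perm (Fin n)) x = x}
  mul_mem' := by
    intro a b ha hb x hx
    show (a : Perm (Fin n)) ((b : Perm (Fin n)) x) = x
    rw [hb x hx, ha x hx]
  one_mem' := fun x _ => rfl
  inv_mem' := by
    intro a ha x hx
    show (a : Perm (Fin n))⁻¹ x = x
    rw [Perm.inv_eq_iff_eq]
    exact (ha x hx).symm

theorem mem_Lsub (g : alternatingGroup (Fin n)) :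
    g ∈ Lsub n ↔ ∀ x : Fin n, x.val < 4 → (g : Perm (Fin n)) x = x := Iff.rfl

theorem mem_Csub (g : alternatingGroup (Fin n)) :
    g ∈ Csub n ↔ ∀ x : Fin n, 4 ≤ x.val → (g : Perm (Fin n)) x = x := Iff.rfl

theorem iInf_eq_Lsub (h4 : 4 ≤ n) :
    (⨅ i : Fin 4, MulAction.stabilizer ↥(alternatingGroup (Fin n)) (Fin.castLE h4 i : Fin n)) =
      Lsub n := by
  ext g
  rw [Subgroup.mem_iInf, mem_Lsub]
  constructor
  · intro h x hx
    have h1 := h ⟨x.val, hx⟩
    rw [MulAction.mem_stabilizer_iff] at h1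
    have e : Fin.castLE h4 ⟨x.val, hx⟩ = x := Fin.ext rfl
    rw [e] at h1
    exact h1
  · intro h i
    rw [MulAction.mem_stabilizer_iff]
    exact h _ (by simp)

/-- a three-cycle as an element of the alternating group -/
def c3A (a b c : Fin n) (hab : a ≠ b) (hac : a ≠ c) (hbc : b ≠ c) : alternatingGroup (Fin n) :=
  ⟨c3 a b c, (c3_isThreeCycle a b c hab hac hbc).mem_alternatingGroup⟩

theorem c3A_coe (a b c : Fin n) (hab : a ≠ b) (hac : a ≠ c) (hbc : b ≠ c) :
    ((c3A a b c hab hac hbc : alternatingGroup (Fin n)) : Perm (Fin n)) = c3 a b c := rfl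

theorem c3A_mem_L (a b c : Fin n) (hab : a ≠ b) (hac : a ≠ c) (hbc : b ≠ c)
    (ha : 4 ≤ a.val) (hb : 4 ≤ b.val) (hc : 4 ≤ c.val) : c3A a b c hab hac hbc ∈ Lsub n := by
  intro x hx
  rw [c3A_coe]
  exact c3_other a b c x hab hac hbc (by rintro rfl; omega) (by rintro rfl; omega)
    (by rintro rfl; omega)

theorem c3A_mem_C (a b c : Fin n) (hab : a ≠ b) (hac : a ≠ c) (hbc : b ≠ c)
    (ha : a.val < 4) (hb : b.val < 4) (hc : c.val < 4) : c3A a b c hab hac hbc ∈ Csub n := by
  intro x hx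
  rw [c3A_coe]
  exact c3_other a b c x hab hac hbc (by rintro rfl; omega) (by rintro rfl; omega)
    (by rintro rfl; omega)

theorem exists_ge4 (hn : 9 ≤ n) (p q r : Fin n) :
    ∃ u : Fin n, 4 ≤ u.val ∧ u ≠ p ∧ u ≠ q ∧ u ≠ r := by
  by_cases h4 : p.val ≠ 4 ∧ q.val ≠ 4 ∧ r.val ≠ 4
  · exact ⟨⟨4, by omega⟩, le_refl _, fun h => h4.1 (by rw [← h]),
      fun h => h4.2.1 (by rw [← h]), fun h => h4.2.2 (by rw [← h])⟩
  · by_cases h5 : p.val ≠ 5 ∧ q.val ≠ 5 ∧ r.val ≠ 5
    · exact ⟨⟨5, by omega⟩, by simp, fun h => h5.1 (by rw [← h]),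
        fun h => h5.2.1 (by rw [← h]), fun h => h5.2.2 (by rw [← h])⟩
    · by_cases h6 : p.val ≠ 6 ∧ q.val ≠ 6 ∧ r.val ≠ 6
      · exact ⟨⟨6, by omega⟩, by simp, fun h => h6.1 (by rw [← h]),
          fun h => h6.2.1 (by rw [← h]), fun h => h6.2.2 (by rw [← h])⟩
      · refine ⟨⟨7, by omega⟩, by simp, ?_, ?_, ?_⟩ <;>
        · intro h
          have h' := congrArg Fin.val h
          simp only at h'
          omega

/-- the permutation maps the first four points among themselves -/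
def Pres (g : Perm (Fin n)) : Prop := ∀ x : Fin n, x.val < 4 → (g x).val < 4

theorem pres_inv (h4 : 4 ≤ n) (g : Perm (Fin n)) (hg : Pres g) : Pres g⁻¹ := by
  let f : Fin 4 → Fin 4 := fun i => ⟨(g (Fin.castLE h4 i)).val, hg _ (by simp)⟩
  have hinj : Function.Injective f := by
    intro i j hij
    have h1 : (g (Fin.castLE h4 i)).val = (g (Fin.castLE h4 j)).val :=
      congrArg (fun w : Fin 4 => w.val) hij
    have h2 := g.injective (Fin.ext h1)
    have h3 := congrArg Fin.val h2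
    simp only [Fin.val_castLE] at h3
    exact Fin.ext h3
  have hsurj : Function.Surjective f := Finite.injective_iff_surjective.mp hinj
  intro d hd
  obtain ⟨i, hi⟩ := hsurj ⟨d.val, hd⟩
  have h1 : g (Fin.castLE h4 i) = d := Fin.ext (congrArg (fun w : Fin 4 => w.val) hi)
  have h2 : g⁻¹ d = Fin.castLE h4 i := by
    rw [Perm.inv_eq_iff_eq, h1]
  rw [h2]
  simp

theorem pres_compl (h4 : 4 ≤ n) (g : Perm (Fin n)) (hg : Pres g) (x : Fin n)
    (hx : 4 ≤ x.val) : 4 ≤ (g x).val := by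
  by_contra hlt
  have h1 := pres_inv h4 g hg (g x) (by omega)
  have h2 : g⁻¹ (g x) = x := g.symm_apply_apply x
  rw [h2] at h1
  omega

theorem exists_lt4 (h4 : 4 ≤ n) (p q : Fin n) :
    ∃ u : Fin n, u.val < 4 ∧ u ≠ p ∧ u ≠ q := by
  by_cases h0 : p.val ≠ 0 ∧ q.val ≠ 0
  · exact ⟨⟨0, by omega⟩, by simp, fun h => h0.1 (by rw [← h]), fun h => h0.2 (by rw [← h])⟩
  · by_cases h1 : p.val ≠ 1 ∧ q.val ≠ 1
    · exact ⟨⟨1, by omega⟩, by simp, fun h => h1.1 (by rw [← h]), fun h => h1.2 (by rw [← h])⟩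
    · refine ⟨⟨2, by omega⟩, by simp, ?_, ?_⟩ <;>
      · intro h
        have h' := congrArg Fin.val h
        simp only at h'
        omega

theorem centralizer_L (hn : 9 ≤ n) :
    Subgroup.centralizer (Lsub n : Set (alternatingGroup (Fin n))) = Csub n := by
  ext g
  rw [Subgroup.mem_centralizer_iff, mem_Csub]
  constructor
  · intro h x hx
    by_contra hne
    by_cases hy : ((g : Perm (Fin n)) x).val < 4
    · obtain ⟨u, hu, hux, -, -⟩ := exists_ge4 hn x x x
      obtain ⟨v, hv, hvx, hvu, -⟩ := exists_ge4 hn x u u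
      have hm := c3A_mem_L x u v hux.symm hvx.symm hvu.symm hx hu hv
      have h1 := h _ hm
      have h2 : (c3 x u v) ((g : Perm (Fin n)) x) = (g : Perm (Fin n)) (c3 x u v x) :=
        congrArg (fun w : alternatingGroup (Fin n) => (w : Perm (Fin n)) x) h1
      rw [c3_a x u v hux.symm hvx.symm hvu.symm,
        c3_other x u v _ hux.symm hvx.symm hvu.symm hne (by intro e; rw [e] at hy; omega)
          (by intro e; rw [e] at hy; omega)] at h2
      exact hux (g.1.injective h2).symm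
    · have hy' : 4 ≤ ((g : Perm (Fin n)) x).val := by omega
      obtain ⟨u, hu, hux, huy, -⟩ := exists_ge4 hn x ((g : Perm (Fin n)) x) x
      obtain ⟨v, hv, hvx, hvy, hvu⟩ := exists_ge4 hn x ((g : Perm (Fin n)) x) u
      have hm := c3A_mem_L ((g : Perm (Fin n)) x) u v huy.symm hvy.symm hvu.symm hy' hu hv
      have h1 := h _ hm
      have h2 : (c3 ((g : Perm (Fin n)) x) u v) ((g : Perm (Fin n)) x) =
          (g : Perm (Fin n)) (c3 ((g : Perm (Fin n)) x) u v x) :=
        congrArg (fun w : alternatingGroup (Fin n) => (w : Perm (Fin n)) x) h1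
      rw [c3_a _ u v huy.symm hvy.symm hvu.symm,
        c3_other _ u v x huy.symm hvy.symm hvu.symm (fun e => hne e.symm) hux.symm hvx.symm] at h2
      exact huy h2
  · intro hg h hh
    apply Subtype.ext
    show (h : Perm (Fin n)) * (g : Perm (Fin n)) = (g : Perm (Fin n)) * (h : Perm (Fin n))
    have hd : Perm.Disjoint (h : Perm (Fin n)) (g : Perm (Fin n)) := by
      intro x
      by_cases hx : x.val < 4
      · exact Or.inl (hh x hx)
      · exact Or.inr (hg x (by omega))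
    exact hd.commute.eq

theorem conj_coe (g k : alternatingGroup (Fin n)) (x : Fin n) :
    ((g * k * g⁻¹ : alternatingGroup (Fin n)) : Perm (Fin n)) x =
      (g : Perm (Fin n)) ((k : Perm (Fin n)) ((g : Perm (Fin n))⁻¹ x)) := rfl

theorem conj_coe' (g k : alternatingGroup (Fin n)) (x : Fin n) :
    ((g⁻¹ * k * g : alternatingGroup (Fin n)) : Perm (Fin n)) x =
      (g : Perm (Fin n))⁻¹ ((k : Perm (Fin n)) ((g : Perm (Fin n)) x)) := rfl

theorem pres_norm_L (h4 : 4 ≤ n) (g : alternatingGroup (Fin n))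
    (hg : Pres (g : Perm (Fin n))) :
    g ∈ Subgroup.normalizer (Lsub n : Set (alternatingGroup (Fin n))) := by
  rw [Subgroup.mem_normalizer_iff]
  intro k
  have hgi := pres_inv h4 _ hg
  constructor
  · intro hk x hx
    rw [conj_coe, hk _ (hgi x hx)]
    exact g.1.apply_symm_apply x
  · intro hk x hx
    have h1 := hk (g.1 x) (hg x hx)
    rw [conj_coe] at h1
    have h2 : (g : Perm (Fin n))⁻¹ ((g : Perm (Fin n)) x) = x := g.1.symm_apply_apply x
    rw [h2] at h1
    exact g.1.injective h1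

theorem pres_norm_C (h4 : 4 ≤ n) (g : alternatingGroup (Fin n))
    (hg : Pres (g : Perm (Fin n))) :
    g ∈ Subgroup.normalizer (Csub n : Set (alternatingGroup (Fin n))) := by
  rw [Subgroup.mem_normalizer_iff]
  intro k
  have hgi := pres_inv h4 _ hg
  constructor
  · intro hk x hx
    rw [conj_coe, hk _ (pres_compl h4 _ hgi x hx)]
    exact g.1.apply_symm_apply x
  · intro hk x hx
    have h1 := hk (g.1 x) (pres_compl h4 _ hg x hx)
    rw [conj_coe] at h1
    have h2 : (g : Perm (Fin n))⁻¹ ((g : Perm (Fin n)) x) = x := g.1.symm_apply_apply x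
    rw [h2] at h1
    exact g.1.injective h1

theorem norm_L_pres (hn : 9 ≤ n) (g : alternatingGroup (Fin n))
    (hg : g ∈ Subgroup.normalizer (Lsub n : Set (alternatingGroup (Fin n)))) :
    Pres (g : Perm (Fin n)) := by
  intro d hd
  by_contra hlt
  have hy : 4 ≤ ((g : Perm (Fin n)) d).val := by omega
  obtain ⟨u, hu, huy, -, -⟩ := exists_ge4 hn (g.1 d) (g.1 d) (g.1 d)
  obtain ⟨v, hv, hvy, hvu, -⟩ := exists_ge4 hn (g.1 d) u u
  have hm := c3A_mem_L (g.1 d) u v huy.symm hvy.symm hvu.symm hy hu hv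
  have hgi : g⁻¹ ∈ Subgroup.normalizer (Lsub n : Set (alternatingGroup (Fin n))) :=
    Subgroup.inv_mem _ hg
  rw [Subgroup.mem_normalizer_iff] at hgi
  have h1 := (hgi _).mp hm
  rw [inv_inv] at h1
  have h2 := h1 d hd
  rw [conj_coe', c3A_coe, c3_a _ u v huy.symm hvy.symm hvu.symm, Perm.inv_eq_iff_eq] at h2
  exact huy h2

theorem norm_C_pres (hn : 9 ≤ n) (g : alternatingGroup (Fin n))
    (hg : g ∈ Subgroup.normalizer (Csub n : Set (alternatingGroup (Fin n)))) :
    Pres (g : Perm (Fin n)) := by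
  have h4 : 4 ≤ n := by omega
  by_contra hnp
  have hnp' : ¬ Pres ((g : Perm (Fin n))⁻¹) := by
    intro hp
    apply hnp
    have h1 := pres_inv h4 _ hp
    rw [inv_inv] at h1
    exact h1
  unfold Pres at hnp'
  push Not at hnp'
  obtain ⟨b, hb, hgb⟩ := hnp'
  obtain ⟨b1, hb1, hb1b, -⟩ := exists_lt4 h4 b b
  obtain ⟨b2, hb2, hb2b, hb21⟩ := exists_lt4 h4 b b1
  have hm := c3A_mem_C b b1 b2 hb1b.symm hb2b.symm hb21.symm hb hb1 hb2
  have hgi : g⁻¹ ∈ Subgroup.normalizer (Csub n : Set (alternatingGroup (Fin n))) :=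
    Subgroup.inv_mem _ hg
  rw [Subgroup.mem_normalizer_iff] at hgi
  have h1 := (hgi _).mp hm
  rw [inv_inv] at h1
  have h2 := h1 _ hgb
  have h3 : (g : Perm (Fin n)) ((g : Perm (Fin n))⁻¹ b) = b := g.1.apply_symm_apply b
  rw [conj_coe', c3A_coe, h3, c3_a _ b1 b2 hb1b.symm hb2b.symm hb21.symm] at h2
  exact hb1b (g.1.symm.injective h2)

theorem simple_L (hn : 9 ≤ n) : IsSimpleGroup (Lsub n) := by
  have hcard : 5 ≤ Nat.card {x : Fin n // 4 ≤ x.val} := by
    have hinj : Function.Injective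
        (fun i : Fin 5 => (⟨⟨i.val + 4, by omega⟩, by simp⟩ : {x : Fin n // 4 ≤ x.val})) := by
      intro i j hij
      have h1 := congrArg (fun w : {x : Fin n // 4 ≤ x.val} => w.1.val) hij
      simp only at h1
      exact Fin.ext (by omega)
    have h2 := Nat.card_le_card_of_injective _ hinj
    simpa using h2
  have := alternatingGroup.isSimpleGroup (α := {x : Fin n // 4 ≤ x.val}) hcard
  let ι₀ : alternatingGroup {x : Fin n // 4 ≤ x.val} →* Perm (Fin n) :=
    (Perm.ofSubtype (p := fun x : Fin n => 4 ≤ x.val)).comp (Subgroup.subtype _)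
  have hι₀ : ∀ f, ι₀ f ∈ alternatingGroup (Fin n) := by
    intro f
    rw [Perm.mem_alternatingGroup]
    show Perm.sign (Perm.ofSubtype (f : Perm {x : Fin n // 4 ≤ x.val})) = 1
    rw [Perm.sign_ofSubtype]
    exact Perm.mem_alternatingGroup.mp f.2
  let ι₁ : alternatingGroup {x : Fin n // 4 ≤ x.val} →* alternatingGroup (Fin n) :=
    ι₀.codRestrict _ hι₀
  have hι₁ : ∀ f, ι₁ f ∈ Lsub n := by
    intro f x hx
    show Perm.ofSubtype (f : Perm {x : Fin n // 4 ≤ x.val}) x = x
    exact Perm.ofSubtype_apply_of_not_mem _ (by omega)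
  let ι : alternatingGroup {x : Fin n // 4 ≤ x.val} →* Lsub n := ι₁.codRestrict _ hι₁
  have hinj : Function.Injective ι := by
    intro f f' hff
    have h1 : Perm.ofSubtype (f : Perm {x : Fin n // 4 ≤ x.val}) =
        Perm.ofSubtype (f' : Perm {x : Fin n // 4 ≤ x.val}) :=
      congrArg (fun w : Lsub n => ((w : alternatingGroup (Fin n)) : Perm (Fin n))) hff
    exact Subtype.ext (Perm.ofSubtype_injective h1)
  have hsurj : Function.Surjective ι := by
    rintro ⟨k, hk⟩
    have h₁ : ∀ x, 4 ≤ ((k : Perm (Fin n)) x).val ↔ 4 ≤ x.val := by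
      intro x
      constructor
      · intro h
        by_contra hx
        rw [hk x (by omega)] at h
        exact hx h
      · intro h
        by_contra hx
        have h2 := hk _ (by omega : ((k : Perm (Fin n)) x).val < 4)
        have h3 := k.1.injective h2
        rw [h3] at hx
        exact hx h
    have h₂ : ∀ x, (k : Perm (Fin n)) x ≠ x → 4 ≤ x.val := by
      intro x hx
      by_contra hlt
      exact hx (hk x (by omega))
    have hmem : Perm.subtypePerm (k : Perm (Fin n)) h₁ ∈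
        alternatingGroup {x : Fin n // 4 ≤ x.val} := by
      rw [Perm.mem_alternatingGroup, Perm.sign_subtypePerm _ h₁ h₂]
      exact Perm.mem_alternatingGroup.mp k.2
    refine ⟨⟨_, hmem⟩, ?_⟩
    apply Subtype.ext
    apply Subtype.ext
    show Perm.ofSubtype (Perm.subtypePerm (k : Perm (Fin n)) h₁) = k
    exact Perm.ofSubtype_subtypePerm h₁ h₂
  exact (MulEquiv.ofBijective ι ⟨hinj, hsurj⟩).symm.isSimpleGroup

theorem quasi_L (hn : 9 ≤ n) : Cfsg.IsQuasisimple (Lsub n) := by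
  have := simple_L hn
  apply quasi_of_simple
  intro hcomm
  have a4 : (⟨4, by omega⟩ : Fin n) ≠ ⟨5, by omega⟩ := by
    intro h; have := congrArg Fin.val h; simp at this
  have a5 : (⟨4, by omega⟩ : Fin n) ≠ ⟨6, by omega⟩ := by
    intro h; have := congrArg Fin.val h; simp at this
  have a6 : (⟨5, by omega⟩ : Fin n) ≠ ⟨6, by omega⟩ := by
    intro h; have := congrArg Fin.val h; simp at this
  have a7 : (⟨4, by omega⟩ : Fin n) ≠ ⟨7, by omega⟩ := by
    intro h; have := congrArg Fin.val h; simp at this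
  have a8 : (⟨5, by omega⟩ : Fin n) ≠ ⟨7, by omega⟩ := by
    intro h; have := congrArg Fin.val h; simp at this
  have a9 : (⟨6, by omega⟩ : Fin n) ≠ ⟨7, by omega⟩ := by
    intro h; have := congrArg Fin.val h; simp at this
  have hx := c3A_mem_L (⟨4, by omega⟩ : Fin n) ⟨5, by omega⟩ ⟨6, by omega⟩ a4 a5 a6
    (by simp) (by simp) (by simp)
  have hy := c3A_mem_L (⟨4, by omega⟩ : Fin n) ⟨5, by omega⟩ ⟨7, by omega⟩ a4 a7 a8
    (by simp) (by simp) (by simp)
  have h1 := hcomm.is_comm.comm (⟨_, hx⟩ : Lsub n) ⟨_, hy⟩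
  have h2 : c3 (⟨4, by omega⟩ : Fin n) ⟨5, by omega⟩ ⟨6, by omega⟩
      (c3 (⟨4, by omega⟩ : Fin n) ⟨5, by omega⟩ ⟨7, by omega⟩ ⟨6, by omega⟩) =
      c3 (⟨4, by omega⟩ : Fin n) ⟨5, by omega⟩ ⟨7, by omega⟩
      (c3 (⟨4, by omega⟩ : Fin n) ⟨5, by omega⟩ ⟨6, by omega⟩ ⟨6, by omega⟩) :=
    congrArg (fun w : Lsub n =>
      ((w : alternatingGroup (Fin n)) : Perm (Fin n)) ⟨6, by omega⟩) h1
  rw [c3_other _ _ _ _ a4 a7 a8 a5.symm a6.symm a9, c3_c _ _ _ a4 a5 a6,
    c3_a _ _ _ a4 a7 a8] at h2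
  exact a4 h2

theorem even_C (hn : 9 ≤ n) : Even (Nat.card (Csub n)) := by
  have a01 : (⟨0, by omega⟩ : Fin n) ≠ ⟨1, by omega⟩ := by
    intro h; have := congrArg Fin.val h; simp at this
  have a23 : (⟨2, by omega⟩ : Fin n) ≠ ⟨3, by omega⟩ := by
    intro h; have := congrArg Fin.val h; simp at this
  have hdis : Perm.Disjoint (swap (⟨0, by omega⟩ : Fin n) ⟨1, by omega⟩)
      (swap (⟨2, by omega⟩ : Fin n) ⟨3, by omega⟩) := by
    apply Perm.disjoint_swap_swap
    simp [Fin.ext_iff]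
  have hsq : (swap (⟨0, by omega⟩ : Fin n) ⟨1, by omega⟩ *
      swap (⟨2, by omega⟩ : Fin n) ⟨3, by omega⟩) ^ 2 = 1 := by
    rw [pow_two, hdis.commute.symm.mul_mul_mul_comm, swap_mul_self, swap_mul_self, one_mul]
  have hne : (swap (⟨0, by omega⟩ : Fin n) ⟨1, by omega⟩ *
      swap (⟨2, by omega⟩ : Fin n) ⟨3, by omega⟩) ≠ 1 := by
    intro h
    have h1 := congrArg (fun f : Perm (Fin n) => f ⟨0, by omega⟩) h
    simp only [Perm.mul_apply, Perm.one_apply] at h1
    have e1 : swap (⟨2, by omega⟩ : Fin n) ⟨3, by omega⟩ ⟨0, by omega⟩ = ⟨0, by omega⟩ :=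
      swap_apply_of_ne_of_ne (by simp [Fin.ext_iff]) (by simp [Fin.ext_iff])
    rw [e1, swap_apply_left] at h1
    exact a01 h1.symm
  have hmemA : (swap (⟨0, by omega⟩ : Fin n) ⟨1, by omega⟩ *
      swap (⟨2, by omega⟩ : Fin n) ⟨3, by omega⟩) ∈ alternatingGroup (Fin n) := by
    rw [Perm.mem_alternatingGroup, map_mul, Perm.sign_swap a01, Perm.sign_swap a23]
    rfl
  have hmemC : (⟨_, hmemA⟩ : alternatingGroup (Fin n)) ∈ Csub n := by
    intro x hx
    show (swap (⟨0, by omega⟩ : Fin n) ⟨1, by omega⟩ *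
      swap (⟨2, by omega⟩ : Fin n) ⟨3, by omega⟩) x = x
    have e1 : swap (⟨2, by omega⟩ : Fin n) ⟨3, by omega⟩ x = x :=
      swap_apply_of_ne_of_ne (by intro e; rw [e] at hx; simp at hx)
        (by intro e; rw [e] at hx; simp at hx)
    have e2 : swap (⟨0, by omega⟩ : Fin n) ⟨1, by omega⟩ x = x :=
      swap_apply_of_ne_of_ne (by intro e; rw [e] at hx; simp at hx)
        (by intro e; rw [e] at hx; simp at hx)
    rw [Perm.mul_apply, e1, e2]
  have : Fact (Nat.Prime 2) := ⟨Nat.prime_two⟩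
  have ho : orderOf (⟨⟨_, hmemA⟩, hmemC⟩ : Csub n) = 2 := by
    rw [← Subgroup.orderOf_coe, ← Subgroup.orderOf_coe]
    exact orderOf_eq_prime hsq hne
  rw [even_iff_two_dvd, ← ho]
  exact orderOf_dvd_natCard _

theorem tight_C (hn : 9 ≤ n) : Cfsg.IsTightlyEmbedded (Csub n) := by
  have h4 : 4 ≤ n := by omega
  refine ⟨even_C hn, ?_⟩
  intro g hg
  have hnp : ¬ Pres ((g : Perm (Fin n))⁻¹) := by
    intro hp
    apply hg
    have h1 := pres_inv h4 _ hp
    rw [inv_inv] at h1
    exact pres_norm_C h4 g h1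
  unfold Pres at hnp
  push Not at hnp
  obtain ⟨d, hd, hgd⟩ := hnp
  have hfix : ∀ k ∈ Csub n ⊓ (Csub n).map (MulAut.conj g).toMonoidHom,
      (k : Perm (Fin n)) d = d := by
    rintro k ⟨-, c, hc, rfl⟩
    show (g : Perm (Fin n)) ((c : Perm (Fin n)) ((g : Perm (Fin n))⁻¹ d)) = d
    rw [hc _ hgd]
    exact g.1.apply_symm_apply d
  by_contra hodd
  rw [Nat.not_odd_iff_even] at hodd
  have : Fact (Nat.Prime 2) := ⟨Nat.prime_two⟩
  obtain ⟨k, hk⟩ := exists_prime_orderOf_dvd_card' (G := ↥(Csub n ⊓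
    (Csub n).map (MulAut.conj g).toMonoidHom)) 2 hodd.two_dvd
  have h1 : orderOf ((k : alternatingGroup (Fin n)) : Perm (Fin n)) = 2 := by
    rw [Subgroup.orderOf_coe, Subgroup.orderOf_coe]
    exact hk
  have h2 := invol_support _ h1 (Perm.mem_alternatingGroup.mp k.1.2)
  have hkC : ∀ x : Fin n, 4 ≤ x.val → ((k : alternatingGroup (Fin n)) : Perm (Fin n)) x = x :=
    k.2.1
  have hkd := hfix k.1 k.2
  let f : Fin n → Fin 4 := fun x => if h : x.val < 4 then ⟨x.val, h⟩ else 0
  have h3 : (((k : alternatingGroup (Fin n)) : Perm (Fin n))).support.card ≤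
      ((Finset.univ : Finset (Fin 4)).erase ⟨d.val, hd⟩).card := by
    apply Finset.card_le_card_of_injOn f
    · intro x hx
      have hx' : ((k : alternatingGroup (Fin n)) : Perm (Fin n)) x ≠ x := Perm.mem_support.mp hx
      have hx4 : x.val < 4 := by
        by_contra hge
        exact hx' (hkC x (by omega))
      rw [Finset.mem_coe, Finset.mem_erase]
      refine ⟨?_, Finset.mem_univ _⟩
      intro hf
      have hfx : f x = ⟨x.val, hx4⟩ := dif_pos hx4
      rw [hfx] at hf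
      have hxd : x = d := Fin.ext (congrArg (fun w : Fin 4 => w.val) hf)
      rw [hxd] at hx'
      exact hx' hkd
    · intro x hx y hy hxy
      have hx' : ((k : alternatingGroup (Fin n)) : Perm (Fin n)) x ≠ x :=
        Perm.mem_support.mp (Finset.mem_coe.mp hx)
      have hy' : ((k : alternatingGroup (Fin n)) : Perm (Fin n)) y ≠ y :=
        Perm.mem_support.mp (Finset.mem_coe.mp hy)
      have hx4 : x.val < 4 := by
        by_contra hge
        exact hx' (hkC x (by omega))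
      have hy4 : y.val < 4 := by
        by_contra hge
        exact hy' (hkC y (by omega))
      have hfx : f x = ⟨x.val, hx4⟩ := dif_pos hx4
      have hfy : f y = ⟨y.val, hy4⟩ := dif_pos hy4
      rw [hfx, hfy] at hxy
      exact Fin.ext (congrArg (fun w : Fin 4 => w.val) hxy)
  rw [Finset.card_erase_of_mem (Finset.mem_univ _), Finset.card_univ, Fintype.card_fin] at h3
  omega

theorem exists_outside (hn : 9 ≤ n) (g : Perm (Fin n)) :
    ∃ c : Fin n, 4 ≤ c.val ∧ 4 ≤ (g⁻¹ c).val := by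
  by_contra hno
  push Not at hno
  let f : Fin 5 → Fin 4 := fun i => ⟨(g⁻¹ ⟨i.val + 4, by omega⟩).val, hno _ (by simp)⟩
  have hinj : Function.Injective f := by
    intro i j hij
    have h1 : (g⁻¹ ⟨i.val + 4, by omega⟩).val = (g⁻¹ ⟨j.val + 4, by omega⟩).val :=
      congrArg (fun w : Fin 4 => w.val) hij
    have h2 := g⁻¹.injective (Fin.ext h1)
    have h3 := congrArg Fin.val h2
    simp only at h3
    exact Fin.ext (by omega)
  have h5 := Fintype.card_le_of_injective f hinj
  simp at h5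

theorem comm_ne (hn : 9 ≤ n) (g : alternatingGroup (Fin n))
    (hg : (Lsub n).map (MulAut.conj g).toMonoidHom ≠ Lsub n) :
    ⁅Lsub n, (Lsub n).map (MulAut.conj g).toMonoidHom⁆ ≠ ⊥ := by
  have h4 : 4 ≤ n := by omega
  have hnp : ¬ Pres (g : Perm (Fin n)) := by
    intro hp
    apply hg
    have hN := pres_norm_L h4 g hp
    ext k
    rw [Subgroup.mem_map]
    constructor
    · rintro ⟨x, hx, rfl⟩
      exact (Subgroup.mem_normalizer_iff.mp hN x).mp hx
    · intro hk
      refine ⟨g⁻¹ * k * g, ?_, ?_⟩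
      · have hNi : g⁻¹ ∈ Subgroup.normalizer (Lsub n : Set (alternatingGroup (Fin n))) :=
          Subgroup.inv_mem _ hN
        have h1 := (Subgroup.mem_normalizer_iff.mp hNi k).mp hk
        rw [inv_inv] at h1
        exact h1
      · show g * (g⁻¹ * k * g) * g⁻¹ = k
        group
  have hnp' : ¬ Pres ((g : Perm (Fin n))⁻¹) := by
    intro hp
    apply hnp
    have h1 := pres_inv h4 _ hp
    rw [inv_inv] at h1
    exact h1
  unfold Pres at hnp hnp'
  push Not at hnp hnp'
  obtain ⟨d, hd, hgd⟩ := hnp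
  obtain ⟨b, hb, hgb⟩ := hnp'
  obtain ⟨c, hc4, hgc⟩ := exists_outside hn (g : Perm (Fin n))
  have hca : c ≠ (g : Perm (Fin n)) d := by
    intro e
    rw [e] at hgc
    have h2 : (g : Perm (Fin n))⁻¹ ((g : Perm (Fin n)) d) = d := g.1.symm_apply_apply d
    rw [h2] at hgc
    omega
  have hcb : c ≠ b := by
    intro e
    rw [e] at hc4
    omega
  obtain ⟨u, hu, hua, huc, -⟩ := exists_ge4 hn ((g : Perm (Fin n)) d) c c
  have hpw : (g : Perm (Fin n))⁻¹ b ≠ (g : Perm (Fin n))⁻¹ c := by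
    intro e
    exact hcb ((g : Perm (Fin n))⁻¹.injective e).symm
  obtain ⟨q, hq, hqw, hqp, -⟩ := exists_ge4 hn ((g : Perm (Fin n))⁻¹ b)
    ((g : Perm (Fin n))⁻¹ c) ((g : Perm (Fin n))⁻¹ c)
  have hx := c3A_mem_L ((g : Perm (Fin n)) d) c u hca.symm hua.symm huc.symm
    (by omega) hc4 hu
  have hy0 := c3A_mem_L ((g : Perm (Fin n))⁻¹ b) ((g : Perm (Fin n))⁻¹ c) q hpw hqw.symm
    hqp.symm hgb hgc hq
  have hy : g * c3A ((g : Perm (Fin n))⁻¹ b) ((g : Perm (Fin n))⁻¹ c) q hpw hqw.symm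
      hqp.symm * g⁻¹ ∈ (Lsub n).map (MulAut.conj g).toMonoidHom :=
    ⟨_, hy0, rfl⟩
  intro hbot
  have h1 := Subgroup.commutator_mem_commutator hx hy
  rw [hbot, Subgroup.mem_bot, commutatorElement_eq_one_iff_mul_comm] at h1
  have h2 := congrArg (fun w : alternatingGroup (Fin n) => (w : Perm (Fin n)) b) h1
  have e1 : (g : Perm (Fin n)) ((g : Perm (Fin n))⁻¹ c) = c := g.1.apply_symm_apply c
  have e2 : c3 ((g : Perm (Fin n)) d) c u b = b :=
    c3_other _ _ _ b hca.symm hua.symm huc.symm (by intro e; rw [e] at hb; omega)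
      (by intro e; rw [e] at hb; omega) (by intro e; rw [e] at hb; omega)
  have h3 : c3 ((g : Perm (Fin n)) d) c u ((g : Perm (Fin n))
      (c3 ((g : Perm (Fin n))⁻¹ b) ((g : Perm (Fin n))⁻¹ c) q ((g : Perm (Fin n))⁻¹ b))) =
      (g : Perm (Fin n)) (c3 ((g : Perm (Fin n))⁻¹ b) ((g : Perm (Fin n))⁻¹ c) q
        ((g : Perm (Fin n))⁻¹ (c3 ((g : Perm (Fin n)) d) c u b))) := h2
  rw [e2, c3_a _ _ _ hpw hqw.symm hqp.symm, e1, c3_b _ _ _ hca.symm hua.symm huc.symm] at h3
  exact huc h3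

theorem std (hn : 9 ≤ n) : Cfsg.IsStandardSubgroup (Lsub n) := by
  have h4 : 4 ≤ n := by omega
  have hC := centralizer_L hn
  refine ⟨quasi_L hn, ?_, ?_, ?_⟩
  · rw [hC]
    exact tight_C hn
  · intro g hg
    exact comm_ne hn g hg
  · rw [hC]
    ext g
    constructor
    · intro h
      exact pres_norm_C h4 g (norm_L_pres hn g h)
    · intro h
      exact pres_norm_L h4 g (norm_C_pres hn g h)

theorem std' (h4 : 4 ≤ n) (hn : 9 ≤ n) : Cfsg.IsStandardSubgroup
    (⨅ i : Fin 4, MulAction.stabilizer ↥(alternatingGroup (Fin n)) (Fin.castLE h4 i : Fin n)) := by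
  rw [iInf_eq_Lsub h4]
  exact std hn

end Cfsg.Agent.Helper18.StdAlt
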