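import Mathlib
import Cfsg.Agent.Helper18.PerfWr

set_option autoImplicit false
set_option linter.unusedSectionVars false
set_option linter.unusedVariables false

namespace Cfsg.Agent.Helper18.SylDer

open Equiv Subgroup Cfsg.Agent.Helper18.PerfWr

universe u

section Upper

variable (p : ℕ) [hp : Fact p.Prime]

theorem exists_max_normal {X : Type*} [Group X] [Finite X] (hX : IsPGroup p X) (S : Subgroup X)
    (hS : S ≠ ⊤) : ∃ M : Subgroup X, S ≤ M ∧ M.index = p ∧ commutator X ≤ M := by
  obtain ⟨a, ha⟩ := IsPGroup.iff_card.mp hX
  obtain ⟨b, hb⟩ := IsPGroup.iff_card.mp (hX.to_subgroup S)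
  have hba : b < a := by
    have hlt : Nat.card S < Nat.card X := by
      by_contra hnot
      exact hS (Subgroup.eq_top_of_card_eq S
        (le_antisymm (Subgroup.card_le_card_group S) (not_lt.mp hnot)))
    rw [ha, hb] at hlt
    exact (Nat.pow_lt_pow_iff_right hp.out.one_lt).mp hlt
  obtain ⟨M, hM, hSM⟩ := Sylow.exists_subgroup_card_pow_prime_le p (m := a - 1)
    (by rw [ha]; exact pow_dvd_pow p (by omega)) S hb (by omega)
  have hidx : M.index = p := by
    have h := Subgroup.card_mul_index M
    rw [hM, ha] at h
    have e : p ^ a = p ^ (a - 1) * p := by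
      rw [← pow_succ]
      congr 1
      omega
    rw [e] at h
    exact Nat.eq_of_mul_eq_mul_left (pow_pos hp.out.pos _) h
  have hnorm : M.Normal := by
    apply Subgroup.normal_of_index_eq_minFac_card
    rw [hidx, ha, Nat.Prime.pow_minFac hp.out (by omega)]
  refine ⟨M, hSM, hidx, ?_⟩
  have hcard : Nat.card (X ⧸ M) = p := hidx
  have : IsCyclic (X ⧸ M) := isCyclic_of_prime_card hcard
  let _ : CommGroup (X ⧸ M) := IsCyclic.commGroup
  have hle : commutator X ≤ (QuotientGroup.mk' M).ker := Abelianization.commutator_subset_ker _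
  rwa [QuotientGroup.ker_mk'] at hle

theorem derived_le_map {X : Type*} [Group X] (M : Subgroup X) (hM : commutator X ≤ M) (j : ℕ) :
    derivedSeries X (j + 1) ≤ (derivedSeries M j).map M.subtype := by
  induction j with
  | zero =>
    rw [derivedSeries_one, derivedSeries_zero, ← MonoidHom.range_eq_map, Subgroup.range_subtype]
    exact hM
  | succ j ih =>
    rw [derivedSeries_succ, derivedSeries_succ (G := M), Subgroup.map_commutator]
    exact Subgroup.commutator_mono ih ih

theorem upper : ∀ (k : ℕ) (Ω : Type u) [Finite Ω], Nat.card Ω < p ^ (k + 1) →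
    ∀ P : Subgroup (Perm Ω), IsPGroup p P → derivedSeries P k = ⊥ := by
  intro k
  induction k with
  | zero =>
    intro Ω _ hΩ P hP
    have htriv : ∀ g : P, g = 1 := by
      intro g
      obtain ⟨j, hj⟩ := hP g
      by_contra hne
      have ho : orderOf g ∣ p ^ j := orderOf_dvd_of_pow_eq_one hj
      obtain ⟨i, hi, hi2⟩ := (Nat.dvd_prime_pow hp.out).mp ho
      have hi0 : i ≠ 0 := by
        rintro rfl
        rw [pow_zero, orderOf_eq_one_iff] at hi2
        exact hne hi2
      have hpdvd : p ∣ orderOf g := by
        rw [hi2]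
        exact dvd_pow_self p hi0
      have hdvd : orderOf g ∣ Nat.card (Perm Ω) := by
        rw [← Subgroup.orderOf_coe]
        exact orderOf_dvd_natCard _
      rw [Nat.card_perm] at hdvd
      have h1 := (hp.out.dvd_factorial).mp (hpdvd.trans hdvd)
      rw [zero_add, pow_one] at hΩ
      omega
    rw [eq_bot_iff]
    intro g _
    rw [Subgroup.mem_bot]
    exact htriv g
  | succ k ih =>
    intro Ω _ hΩ P hP
    rw [eq_bot_iff]
    intro g hg
    rw [Subgroup.mem_bot]
    apply Subtype.ext
    apply Perm.ext
    intro x
    show (g : Perm Ω) x = x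
    by_cases hS : MulAction.stabilizer P x = ⊤
    · have h1 : g ∈ MulAction.stabilizer P x := by
        rw [hS]
        exact Subgroup.mem_top g
      exact MulAction.mem_stabilizer_iff.mp h1
    · obtain ⟨M, hSM, hMidx, hcomm⟩ := exists_max_normal p hP (MulAction.stabilizer P x) hS
      obtain ⟨m, hm, hmg⟩ := derived_le_map M hcomm k hg
      let ρ : M →* Perm (MulAction.orbit M x) := MulAction.toPermHom M (MulAction.orbit M x)
      have hρP : IsPGroup p ρ.range :=
        (hP.to_subgroup M).of_surjective ρ.rangeRestrict ρ.rangeRestrict_surjective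
      have hcard : Nat.card (MulAction.orbit M x) < p ^ (k + 1) := by
        have h_orbP : Nat.card (MulAction.orbit P x) * Nat.card (MulAction.stabilizer P x) =
            Nat.card P := by
          rw [Nat.card_coe_set_eq, ← MulAction.index_stabilizer, mul_comm]
          exact Subgroup.card_mul_index _
        have h_orbM : Nat.card (MulAction.orbit M x) * Nat.card (MulAction.stabilizer M x) =
            Nat.card M := by
          rw [Nat.card_coe_set_eq, ← MulAction.index_stabilizer, mul_comm]
          exact Subgroup.card_mul_index _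
        have hst : Nat.card (MulAction.stabilizer M x) =
            Nat.card (MulAction.stabilizer P x) := by
          have e : MulAction.stabilizer M x = (MulAction.stabilizer P x).subgroupOf M := by
            ext m
            rfl
          rw [e]
          exact Nat.card_congr (Subgroup.subgroupOfEquivOfLe hSM).toEquiv
        have hPM : Nat.card P = Nat.card M * p := by
          rw [← hMidx]
          exact (Subgroup.card_mul_index M).symm
        have hle : Nat.card (MulAction.orbit P x) ≤ Nat.card Ω := Finite.card_subtype_le _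
        have hpos : 0 < Nat.card (MulAction.stabilizer P x) := Nat.card_pos
        have he : Nat.card (MulAction.orbit P x) = Nat.card (MulAction.orbit M x) * p := by
          apply Nat.eq_of_mul_eq_mul_right hpos
          rw [h_orbP, hPM, ← h_orbM, hst]
          ring
        have hlt : Nat.card (MulAction.orbit M x) * p < p ^ (k + 1) * p := by
          rw [← he, ← pow_succ]
          omega
        exact Nat.lt_of_mul_lt_mul_right hlt
      have h0 := ih (MulAction.orbit M x) hcard ρ.range hρP
      have h1 : ρ.rangeRestrict m ∈ derivedSeries ρ.range k :=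
        map_derivedSeries_le_derivedSeries ρ.rangeRestrict k (Subgroup.mem_map_of_mem _ hm)
      rw [h0, Subgroup.mem_bot] at h1
      have h2 : ρ m = 1 := congrArg Subtype.val h1
      have h3 := congrArg
        (fun f : Perm (MulAction.orbit M x) => (f ⟨x, MulAction.mem_orbit_self x⟩ : Ω)) h2
      rw [← hmg]
      exact h3

end Upper


section Lower

variable (p : ℕ) [hp : Fact p.Prime]

theorem card_C : Nat.card (Multiplicative (ZMod p)) = p := by
  rw [Nat.card_eq_fintype_card, Fintype.card_multiplicative, ZMod.card]

theorem exists_tower (d : ℕ) : ∃ (S : Type) (_ : Group S) (_ : Finite S) (Λ : Type)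
    (_ : Fintype Λ) (j : S →* Perm Λ), Function.Injective j ∧ Fintype.card Λ = p ^ (d + 1) ∧
      (∃ m, Nat.card S = p ^ m) ∧ derivedSeries S d ≠ ⊥ := by
  have hC : Nontrivial (Multiplicative (ZMod p)) := by
    rw [← Finite.one_lt_card_iff_nontrivial, card_C]
    exact hp.out.one_lt
  induction d with
  | zero =>
    refine ⟨Multiplicative (ZMod p), inferInstance, inferInstance, Multiplicative (ZMod p),
      inferInstance, MulAction.toPermHom _ _, MulAction.toPerm_injective, ?_, ⟨1, ?_⟩, ?_⟩
    · rw [zero_add, pow_one, Fintype.card_multiplicative, ZMod.card]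
    · rw [pow_one, card_C]
    · rw [derivedSeries_zero]
      exact top_ne_bot
  | succ d ih =>
    obtain ⟨S, _, _, Λ, _, j, hj, hΛ, ⟨m, hm⟩, hS⟩ := ih
    let _ : MulAction S Λ := MulAction.compHom Λ j
    have hfaith : FaithfulSMul S Λ := ⟨fun h => hj (Equiv.ext h)⟩
    have hne : Nonempty Λ := by
      rw [← Fintype.card_pos_iff, hΛ]
      exact pow_pos hp.out.pos _
    obtain ⟨σ, hσ⟩ := exists_ne (1 : Multiplicative (ZMod p))
    refine ⟨RegularWreathProduct S (Multiplicative (ZMod p)), inferInstance, inferInstance,
      Λ × Multiplicative (ZMod p), inferInstance,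
      RegularWreathProduct.toPerm S (Multiplicative (ZMod p)) Λ,
      RegularWreathProduct.toPermInj S _ Λ, ?_, ⟨m * p + 1, ?_⟩, ?_⟩
    · rw [Fintype.card_prod, hΛ, Fintype.card_multiplicative, ZMod.card, ← pow_succ]
    · rw [RegularWreathProduct.card, hm, card_C, ← pow_mul, pow_succ]
    · have key := long_of_inj 1 d
        (Subgroup.subtype (commutator (RegularWreathProduct S (Multiplicative (ZMod p))) ⊓
          (RegularWreathProduct.rightHom :
            RegularWreathProduct S (Multiplicative (ZMod p)) →* Multiplicative (ZMod p)).ker))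
        (Subgroup.subtype_injective _)
        (by rw [Subgroup.range_subtype, derivedSeries_one]; exact inf_le_left)
        (ev.comp (Subgroup.inclusion inf_le_right))
        (by
          intro s
          refine ⟨⟨cm s σ, ?_, ?_⟩, ?_⟩
          · exact Subgroup.commutator_mem_commutator (Subgroup.mem_top _) (Subgroup.mem_top _)
          · exact MonoidHom.mem_ker.mpr (cm_right s _)
          · exact cm_left s _ hσ)
        hS
      rwa [add_comm] at key

theorem main (n : ℕ) (hn : 1 ≤ n) (P : Sylow p (Perm (Fin n))) :
    derivedSeries (P : Subgroup (Perm (Fin n))) (Nat.log p n) = ⊥ ∧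
    (1 ≤ Nat.log p n → derivedSeries (P : Subgroup (Perm (Fin n))) (Nat.log p n - 1) ≠ ⊥) := by
  constructor
  · apply upper p (Nat.log p n) (Fin n) _ (P : Subgroup _) P.isPGroup'
    rw [Nat.card_fin]
    exact Nat.lt_pow_succ_log_self hp.out.one_lt n
  · intro hk
    obtain ⟨S, _, _, Λ, _, j, hj, hΛ, ⟨m, hm⟩, hS⟩ := exists_tower p (Nat.log p n - 1)
    have hΛn : Fintype.card Λ ≤ Fintype.card (Fin n) := by
      rw [hΛ, Fintype.card_fin, Nat.sub_add_cancel hk]
      exact Nat.pow_log_le_self p (by omega)
    obtain ⟨ι⟩ := Function.Embedding.nonempty_of_card_le hΛn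
    have hJ : Function.Injective ((Perm.viaEmbeddingHom ι).comp j) :=
      (Perm.viaEmbeddingHom_injective ι).comp hj
    have hQ : IsPGroup p ((Perm.viaEmbeddingHom ι).comp j).range :=
      (IsPGroup.of_card hm).of_surjective ((Perm.viaEmbeddingHom ι).comp j).rangeRestrict
        ((Perm.viaEmbeddingHom ι).comp j).rangeRestrict_surjective
    obtain ⟨P', hP'⟩ := hQ.exists_le_sylow
    have hinj : Function.Injective (((Perm.viaEmbeddingHom ι).comp j).codRestrict
        (P' : Subgroup (Perm (Fin n))) (fun s => hP' ⟨s, rfl⟩)) := by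
      intro a b hab
      exact hJ (congrArg (fun w : (P' : Subgroup (Perm (Fin n))) => (w : Perm (Fin n))) hab)
    have h1 : derivedSeries (P' : Subgroup (Perm (Fin n))) (0 + (Nat.log p n - 1)) ≠ ⊥ :=
      long_of_inj 0 _ _ hinj (by rw [derivedSeries_zero]; exact le_top) (MonoidHom.id S)
        Function.surjective_id hS
    rw [zero_add] at h1
    intro h0
    apply h1
    rw [← map_derivedSeries_eq (f := (Sylow.equiv P P').toMonoidHom) (Sylow.equiv P P').surjective,
      h0, Subgroup.map_bot]

end Lower

end Cfsg.Agent.Helper18.SylDer
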