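import Mathlib

set_option autoImplicit false

namespace Cfsg.Agent.Helper18

open MulAction Subgroup Subgroup.leftTransversals

/-- transfer into `Multiplicative (ZMod 2)` of an involution central in a Sylow 2-subgroup:
if every conjugate of it by an element normalizing the Sylow subgroup is mapped
to the nontrivial element, then so is its transfer. -/
theorem transfer_central_involution_ne_one {G : Type*} [Group G] [Finite G] (H : Subgroup G)
    (hP : IsPGroup 2 H) (hodd : Odd H.index)
    (ϕ : H →* Multiplicative (ZMod 2)) (z : G) (hzS : z ∈ H)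
    (hz2 : z * z = 1)
    (hzc : ∀ s ∈ H, s * z = z * s)
    (hN : ∀ g : G, (∀ s ∈ H, g⁻¹ * s * g ∈ H) →
      ∀ h : g⁻¹ * z * g ∈ H, ϕ ⟨g⁻¹ * z * g, h⟩ ≠ 1) :
    MonoidHom.transfer ϕ z ≠ 1 := by
  classical
  let _ := H.fintypeQuotientOfFiniteIndex
  let ψ : G → Multiplicative (ZMod 2) := fun g => if h : g ∈ H then ϕ ⟨g, h⟩ else 1
  have hψ : ∀ g (h : g ∈ H), ϕ ⟨g, h⟩ = ψ g := by
    intro g h
    simp only [ψ, dif_pos h]
  have hψ1 : ∀ g, g ∉ H → ψ g = 1 := by
    intro g h
    simp only [ψ, dif_neg h]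
  have hψone : ψ 1 = 1 := by
    rw [← hψ 1 H.one_mem]
    exact map_one ϕ
  have hψmul : ∀ a b, a ∈ H → b ∈ H → ψ (a * b) = ψ a * ψ b := by
    intro a b ha hb
    rw [← hψ a ha, ← hψ b hb, ← hψ (a * b) (H.mul_mem ha hb), ← map_mul]
    rfl
  have hψconj : ∀ a h, h ∈ H → ψ (h⁻¹ * a * h) = ψ a := by
    intro a h hh
    by_cases ha : a ∈ H
    · rw [hψmul _ _ (H.mul_mem (H.inv_mem hh) ha) hh, hψmul _ _ (H.inv_mem hh) ha,
        mul_comm (ψ h⁻¹), mul_assoc, ← hψmul _ _ (H.inv_mem hh) hh, inv_mul_cancel, hψone,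
        mul_one]
    · rw [hψ1 a ha, hψ1]
      intro hc
      apply ha
      have := H.mul_mem (H.mul_mem hh hc) (H.inv_mem hh)
      simpa [mul_assoc] using this
  let f₀ : G → Multiplicative (ZMod 2) := fun g => ψ (g⁻¹ * z * g)
  have hf₀r : ∀ g h, h ∈ H → f₀ (g * h) = f₀ g := by
    intro g h hh
    show ψ ((g * h)⁻¹ * z * (g * h)) = ψ (g⁻¹ * z * g)
    rw [← hψconj (g⁻¹ * z * g) h hh]
    congr 1
    group
  have hf₀l : ∀ g s, s ∈ H → f₀ (s * g) = f₀ g := by
    intro g s hs
    show ψ ((s * g)⁻¹ * z * (s * g)) = ψ (g⁻¹ * z * g)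
    congr 1
    have := hzc s hs
    calc (s * g)⁻¹ * z * (s * g) = g⁻¹ * (s⁻¹ * (z * s)) * g := by group
      _ = g⁻¹ * z * g := by rw [← this]; group
  let f : G ⧸ H → Multiplicative (ZMod 2) := fun q => f₀ q.out
  have hf : ∀ g : G, f (g : G ⧸ H) = f₀ g := by
    intro g
    obtain ⟨h, hh⟩ := QuotientGroup.mk_out_eq_mul H g
    show f₀ (Quotient.out (g : G ⧸ H)) = f₀ g
    rw [hh, hf₀r g h h.2]
  have hfs : ∀ (s : H) (q : G ⧸ H), f (s • q) = f q := by
    intro s q
    induction q using QuotientGroup.induction_on with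
    | H g =>
      show f (((s : G) * g : G) : G ⧸ H) = f (g : G ⧸ H)
      rw [hf, hf, hf₀l g s s.2]
  -- the transfer as a product over cosets
  let T : H.LeftTransversal := ⟨Set.range (Quotient.out : G ⧸ H → G),
    isComplement_range_left (fun q => Quotient.out_eq' q)⟩
  have hT : ∀ q : G ⧸ H, (T.2.leftQuotientEquiv q : G) = q.out :=
    fun q => IsComplement.leftQuotientEquiv_apply (fun q => Quotient.out_eq' q) q
  have hzinv : z⁻¹ = z := inv_eq_of_mul_eq_one_left hz2
  have hV : MonoidHom.transfer ϕ z = ∏ q : G ⧸ H, ψ (q.out⁻¹ * (z * (z • q).out)) := by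
    rw [MonoidHom.transfer_def ϕ T z]
    unfold diff
    refine Finset.prod_congr rfl (fun q _ => ?_)
    rw [hψ]
    congr 1
    simp only [smul_apply_eq_smul_apply_inv_smul, hT, hzinv, smul_eq_mul]
  have hzz : ∀ q : G ⧸ H, z • z • q = q := by
    intro q
    rw [smul_smul, hz2, one_smul]
  have hcoe : ∀ (g : G) (q : G ⧸ H), ((g * q.out : G) : G ⧸ H) = g • q := by
    intro g q
    rw [← smul_eq_mul, MulAction.Quotient.coe_smul_out]
  have hmem : ∀ q : G ⧸ H, q.out⁻¹ * (z * (z • q).out) ∈ H := by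
    intro q
    apply QuotientGroup.eq.1
    rw [hcoe, hzz]
    exact QuotientGroup.out_eq' q
  have hfix1 : ∀ q : G ⧸ H, z • q ≠ q → f q = 1 := by
    intro q hq
    apply hψ1
    intro hc
    apply hq
    have : ((q.out : G) : G ⧸ H) = ((z * q.out : G) : G ⧸ H) :=
      QuotientGroup.eq.2 (by simpa [mul_assoc] using hc)
    rw [hcoe, QuotientGroup.out_eq'] at this
    exact this.symm
  have hprod : ∏ q : G ⧸ H, ψ (q.out⁻¹ * (z * (z • q).out)) = ∏ q : G ⧸ H, f q := by
    rw [← mul_inv_eq_one, ← Finset.prod_inv_distrib, ← Finset.prod_mul_distrib]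
    have hfixG : ∀ q : G ⧸ H, z • q = q →
        ψ (q.out⁻¹ * (z * (z • q).out)) * (f q)⁻¹ = 1 := by
      intro q hq
      rw [hq, mul_inv_eq_one]
      show _ = ψ (q.out⁻¹ * z * q.out)
      rw [mul_assoc]
    refine Finset.prod_involution (fun q _ => z • q) ?_ ?_ (fun _ _ => Finset.mem_univ _)
      (fun q _ => hzz q)
    · intro q _
      by_cases hq : z • q = q
      · have h1 := hfixG q hq
        rw [hq] at h1
        simp only [hq, h1, mul_one]
      · have hq' : z • (z • q) ≠ z • q := by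
          rw [hzz]; exact fun h => hq h.symm
        rw [hfix1 q hq, hfix1 _ hq', inv_one, mul_one, mul_one, hzz,
          ← hψmul _ _ (hmem q) (by have := hmem (z • q); rwa [hzz] at this)]
        have : q.out⁻¹ * (z * (z • q).out) * ((z • q).out⁻¹ * (z * q.out)) = 1 := by
          calc q.out⁻¹ * (z * (z • q).out) * ((z • q).out⁻¹ * (z * q.out))
              = q.out⁻¹ * (z * z) * q.out := by group
            _ = 1 := by rw [hz2]; group
        rw [this, hψone]
    · intro q _ hne hq
      exact hne (hfixG q hq)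
  -- counting
  let Tc : SubMulAction H (G ⧸ H) :=
    { carrier := {q | f q = 1}
      smul_mem' := fun s q hq => by
        show f (s • q) = 1
        rw [hfs]; exact hq }
  have hcard := hP.card_modEq_card_fixedPoints Tc
  have hempty : IsEmpty (fixedPoints H Tc) := by
    constructor
    rintro ⟨⟨q, hq⟩, hfix⟩
    have hfix' : ∀ s : H, s • q = q := fun s => congrArg Subtype.val (hfix s)
    have hnorm : ∀ s ∈ H, q.out⁻¹ * s * q.out ∈ H := by
      intro s hs
      have h1 := hfix' ⟨s⁻¹, H.inv_mem hs⟩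
      have h2 : ((s⁻¹ * q.out : G) : G ⧸ H) = ((q.out : G) : G ⧸ H) := by
        rw [hcoe, QuotientGroup.out_eq']; exact h1
      have h3 := QuotientGroup.eq.1 h2
      simpa [mul_assoc] using h3
    have h4 := hN q.out hnorm (hnorm z hzS)
    rw [hψ] at h4
    exact h4 hq
  have hcard0 : Nat.card (fixedPoints H Tc) = 0 := Nat.card_of_isEmpty
  rw [hcard0] at hcard
  have hcardTc : Nat.card Tc = (Finset.univ.filter (fun q : G ⧸ H => f q = 1)).card := by
    rw [← Fintype.card_subtype, ← Nat.card_eq_fintype_card]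
    rfl
  have hidx : H.index = Fintype.card (G ⧸ H) := by
    rw [Subgroup.index_eq_card, Nat.card_eq_fintype_card]
  have hsplit := Finset.card_filter_add_card_filter_not (s := (Finset.univ : Finset (G ⧸ H)))
    (fun q : G ⧸ H => f q = 1)
  have hodd2 : Odd (Finset.univ.filter (fun q : G ⧸ H => ¬ f q = 1)).card := by
    rw [Finset.card_univ, ← hidx] at hsplit
    rw [hcardTc] at hcard
    have h0 : (Finset.univ.filter (fun q : G ⧸ H => f q = 1)).card % 2 = 0 := hcard
    rcases hodd with ⟨k, hk⟩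
    rw [Nat.odd_iff]
    omega
  have hfval : ∀ a : Multiplicative (ZMod 2), a ≠ 1 → a = Multiplicative.ofAdd 1 := by decide
  rw [hV, hprod, ← Finset.prod_filter_mul_prod_filter_not Finset.univ (fun q : G ⧸ H => f q = 1),
    Finset.prod_congr rfl (fun q hq => (Finset.mem_filter.1 hq).2), Finset.prod_const_one, one_mul,
    Finset.prod_congr rfl (fun q hq => hfval _ (Finset.mem_filter.1 hq).2), Finset.prod_const]
  obtain ⟨k, hk⟩ := hodd2
  have ht2 : (Multiplicative.ofAdd (1 : ZMod 2)) ^ 2 = 1 := by decide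
  rw [hk, pow_succ, pow_mul, ht2, one_pow, one_mul]
  decide

end Cfsg.Agent.Helper18
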